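import Cfsg.Agent.H332.MonUpper
import Cfsg.Agent.H973.BabyCov
import Cfsg.Agent.H819.TwoACent

/-!
# The Baby Monster has 2-rank at most 14
-/

set_option autoImplicit false

open Cfsg

namespace Cfsg.Agent.H332.BabyUpper

open Cfsg.Agent.SporadicA.Co0Mono hiding smul_add smul_sub smul_neg smul_zero
open Cfsg.Agent.SporadicA.Co1Simple
open Cfsg.Agent.SporadicStructure.Co0Base (e8 e8_coe)
open Cfsg.Agent.SporadicStructure.LeechBase (zmod2_cases)
open Cfsg.Agent.CoOneType.SignFacts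
open Cfsg.Agent.CoOneType.CoOneE (pr pr_surjective E mem_E)
open Cfsg.Agent.MonsterU.Lam2
open Cfsg.Agent.MonsterU.CoFrame
open Cfsg.Agent.MonsterU.CoFrameAct
open Cfsg.Agent.MonsterU.CoFrameL2
open Cfsg.Agent.MonsterU.Ch
open Cfsg.Agent.MonsterU.CoFrameF (exists_of_mem_F)
open Cfsg.Agent.H848.TrioU (pairL pairL_zero pairL_cl pairL_add pairL_sp mem_W1_iff_pairL)
open Cfsg.Agent.H332.GolayE
open Cfsg.Agent.H332.GolayK (mv mv_mem)
open Cfsg.Agent.H332.Replace
open Cfsg.Agent.H332.Upper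
open Cfsg.Agent.H332.Reduce
open Cfsg.Agent.H332.MonUpper
open Cfsg.Spor (Co1)

/-! ### The classes of type 2 in `W12` -/

/-- the pair of a class -/
def HasPair (x : L2) (e : Finset GolayPt) : Prop := x ∈ W12 ∧ e.card = 2 ∧ ∀ d : golayCode, pairL x d = ∑ p ∈ e, (d : Wd) p

/-- the classes with a pair -/
def Y2 : Set L2 := {x | ∃ e, HasPair x e}

theorem subset_of_sum {e e' : Finset GolayPt} (h2 : e.card = 2) (h2' : e'.card = 2)
    (h : ∀ d : golayCode, ∑ p ∈ e, (d : Wd) p = ∑ p ∈ e', (d : Wd) p) : e ⊆ e' := by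
  classical
  intro i hi
  by_contra hi'
  obtain ⟨w, hw, hv⟩ := Cfsg.Agent.SporadicStructure.GolayInterp.exists_word_interp (e ∪ e')
    ((Finset.card_union_le _ _).trans (by omega)) (fun r => if r = i then 1 else 0)
  have h3 := h ⟨w, hw⟩
  have h4 : ∑ p ∈ e, w p = 1 := by
    rw [Finset.sum_congr rfl fun p hp => hv p (Finset.mem_union_left _ hp), Finset.sum_ite_eq' , if_pos hi]
  have h5 : ∑ p ∈ e', w p = 0 := by
    rw [Finset.sum_congr rfl fun p hp => hv p (Finset.mem_union_right _ hp), Finset.sum_ite_eq', if_neg hi']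
  change ∑ p ∈ e, w p = ∑ p ∈ e', w p at h3
  rw [h4, h5] at h3
  exact absurd h3 (by decide)

theorem exists_class_of_pair {e : Finset GolayPt} (h2 : e.card = 2) : ∃ x, HasPair x e := by
  classical
  obtain ⟨i, j, hij, rfl⟩ := Finset.card_eq_two.1 h2
  refine ⟨cl (duad i j), cl_mem_W12.2 (duad_mem i j), h2, fun d => ?_⟩
  rw [pairL_cl, pair_duad, Finset.sum_pair hij]

theorem add_W1 {x w : L2} {e : Finset GolayPt} (hx : HasPair x e) (hw : w ∈ W1) : HasPair (x + w) e :=
  ⟨W12.add_mem hx.1 (W1_le_W12 hw), hx.2.1, fun d => by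
    rw [pairL_add, hx.2.2, (mem_W1_iff_pairL (W1_le_W12 hw)).1 hw, add_zero]⟩

theorem sub_W1 {x x' : L2} {e : Finset GolayPt} (hx : HasPair x e) (hx' : HasPair x' e) : x + x' ∈ W1 := by
  rw [mem_W1_iff_pairL (W12.add_mem hx.1 hx'.1)]
  intro c
  rw [pairL_add, hx.2.2, hx'.2.2]
  have key : ∀ a : ZMod 2, a + a = 0 := by decide
  exact key _

theorem pair_unique {x : L2} {e e' : Finset GolayPt} (hx : HasPair x e) (hx' : HasPair x e') : e = e' := by
  have h : ∀ d : golayCode, ∑ p ∈ e, (d : Wd) p = ∑ p ∈ e', (d : Wd) p := fun d => by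
    rw [← hx.2.2, ← hx'.2.2]
  exact Finset.Subset.antisymm (subset_of_sum hx.2.1 hx'.2.1 h)
    (subset_of_sum hx'.2.1 hx.2.1 fun d => (h d).symm)

theorem card_Y2 : Nat.card Y2 = 552 := by
  classical
  choose f hf using fun e : {e : Finset GolayPt // e.card = 2} => exists_class_of_pair e.2
  let g : {e : Finset GolayPt // e.card = 2} × W1 → Y2 := fun x => ⟨f x.1 + x.2, x.1, add_W1 (hf x.1) x.2.2⟩
  have hg : Function.Bijective g := by
    constructor
    · rintro ⟨e, w⟩ ⟨e', w'⟩ h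
      have h1 : f e + (w : L2) = f e' + w' := congrArg Subtype.val h
      have h2 : e = e' := by
        apply Subtype.ext
        have h3 := add_W1 (hf e) w.2
        rw [h1] at h3
        exact pair_unique h3 (add_W1 (hf e') w'.2)
      subst h2
      have h4 : w = w' := Subtype.ext (add_left_cancel h1)
      rw [h4]
    · rintro ⟨x, e, hx⟩
      refine ⟨⟨⟨e, hx.2.1⟩, ⟨f ⟨e, hx.2.1⟩ + x, sub_W1 (hf ⟨e, hx.2.1⟩) hx⟩⟩, ?_⟩
      apply Subtype.ext
      show f ⟨e, hx.2.1⟩ + (f ⟨e, hx.2.1⟩ + x) = x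
      rw [← add_assoc, add_self, zero_add]
  rw [← Nat.card_congr (Equiv.ofBijective g hg), Nat.card_prod, Cfsg.Agent.MonsterU.CoFrameIrr.card_W1,
    Nat.card_eq_fintype_card, Fintype.card_finset_len, card_pt]
  decide

/-- the classes with a pair have type 2 -/
theorem type_two {x : L2} (hx : x ∈ Y2) : IsType 2 x := by
  obtain ⟨e, hx⟩ := hx
  obtain ⟨i, j, hij, he⟩ := Finset.card_eq_two.1 hx.2.1
  have h1 : HasPair (cl (duad i j)) e := by
    refine ⟨cl_mem_W12.2 (duad_mem i j), hx.2.1, fun d => ?_⟩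
    rw [pairL_cl, pair_duad, he, Finset.sum_pair hij]
  have h2 := sub_W1 h1 hx
  have hnorm : ∀ s : ℤ, s = 1 ∨ s = -1 → ∀ v : leechLattice,
      (∀ k, (v : GolayPt → ℤ) k = 4 * ((if k = i then 1 else 0) - s * (if k = j then 1 else 0))) →
      sqNorm (v : GolayPt → ℤ) = 16 * 2 := by
    intro s hs v hv
    unfold sqNorm
    have h3 : ∀ k, (v : GolayPt → ℤ) k ^ 2 = 16 * ((if k = i then 1 else 0) + (if k = j then 1 else 0)) := by
      intro k
      rw [hv k]
      by_cases h4 : k = i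
      · have h5 : k ≠ j := fun h5 => hij (h4.symm.trans h5)
        rw [if_pos h4, if_neg h5]; ring
      · by_cases h5 : k = j
        · rw [if_neg h4, if_pos h5]
          rcases hs with rfl | rfl <;> norm_num
        · rw [if_neg h4, if_neg h5]; ring
    rw [Finset.sum_congr rfl fun k _ => h3 k, ← Finset.mul_sum, Finset.sum_add_distrib, Finset.sum_ite_eq',
      Finset.sum_ite_eq']
    simp
  rcases (mem_W1 _).1 h2 with h3 | h3
  · have h4 : x = cl (duad i j) := (eq_of_add_eq_zero h3).symm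
    rw [h4]
    exact ⟨duad i j, hnorm 1 (Or.inl rfl) _ fun k => by rw [duad_coe, one_mul], rfl⟩
  · have h4 : x = cl (duad i j + e8 j) := by
      have h5 : cl (e8 j) = f0 := (cong_iff_cl _ _).1 (cong_e8 j none)
      rw [map_add, h5, ← h3, ← add_assoc, add_self, zero_add]
    rw [h4]
    refine ⟨duad i j + e8 j, hnorm (-1) (Or.inr rfl) _ fun k => ?_, rfl⟩
    rw [coe_add', duad_coe, coe_e8]
    split_ifs <;> ring

/-- the frame stabiliser permutes them -/
theorem F_Y2 {s : Co1} (hs : s ∈ F) {x : L2} (hx : x ∈ Y2) : s • x ∈ Y2 := by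
  classical
  obtain ⟨e, hx⟩ := hx
  obtain ⟨c, σ, rfl⟩ := exists_of_mem_F hs
  refine ⟨e.map (σ : Equiv.Perm GolayPt).toEmbedding, F_mem_W12 hs hx.1, by rw [Finset.card_map]; exact hx.2.1,
    fun d => ?_⟩
  have h1 := pairL_sp hx.1 c σ (wordPerm σ⁻¹ d)
  have h2 : wordPerm σ (wordPerm σ⁻¹ d) = d := by
    apply Subtype.ext
    funext p
    rw [wordPerm_apply, wordPerm_apply]
    exact congrArg (d : Wd) ((σ : Equiv.Perm GolayPt).apply_symm_apply p)
  rw [h2] at h1
  rw [h1, hx.2.2, Finset.sum_map]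
  rfl

/-! ### Stabilisers -/

theorem pow_dvd_aux {o s : ℕ} (h : 2 ^ 46 ∣ o * s) (ho : ¬ 2 ^ 5 ∣ o) : 2 ^ 42 ∣ s := by
  have ho0 : o ≠ 0 := by rintro rfl; exact ho (dvd_zero _)
  obtain ⟨a, o', ho', rfl⟩ := Nat.exists_eq_two_pow_mul_odd ho0
  have ha : a ≤ 4 := by
    by_contra h5
    exact ho (Dvd.dvd.mul_right (pow_dvd_pow 2 (by omega)) _)
  have h1 : 2 ^ a * 2 ^ (46 - a) ∣ 2 ^ a * (o' * s) := by
    rw [← pow_add, ← mul_assoc, Nat.add_sub_cancel' (by omega)]
    exact h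
  have h2 : 2 ^ (46 - a) ∣ o' * s := Nat.dvd_of_mul_dvd_mul_left (by positivity) h1
  have h3 : Nat.Coprime (2 ^ (46 - a)) o' := Nat.Coprime.pow_left _ ((Nat.coprime_two_left).2 ho')
  exact (pow_dvd_pow 2 (by omega)).trans (h3.dvd_of_dvd_mul_left h2)

theorem exists_stab {A X : Type*} [Group A] [Finite A] [MulAction A X] [Finite X] (hX : ¬ 2 ^ 5 ∣ Nat.card X)
    (hA : 2 ^ 46 ∣ Nat.card A) : ∃ x : X, 2 ^ 42 ∣ Nat.card (MulAction.stabilizer A x) := by
  classical
  by_contra hno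
  push Not at hno
  apply hX
  have := Fintype.ofFinite (Quotient (MulAction.orbitRel A X))
  rw [Nat.card_congr (MulAction.selfEquivSigmaOrbits A X), Nat.card_sigma]
  refine Finset.dvd_sum fun ω _ => ?_
  set x := ω.out with hx
  have h1 : Nat.card (MulAction.orbit A x) * Nat.card (MulAction.stabilizer A x) = Nat.card A := by
    rw [Nat.card_congr (MulAction.orbitEquivQuotientStabilizer A x)]
    exact (Subgroup.card_eq_card_quotient_mul_card_subgroup _).symm
  by_contra h2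
  exact hno x (pow_dvd_aux (by rw [h1]; exact hA) h2)

variable {G : Type*} [Group G] {Q : Subgroup G} {z : G} {eta : G → L2}
  {pi : Subgroup.centralizer ({z} : Set G) →* Co1}

/-- the elements of `Q` over the classes with a pair -/
abbrev YY (_h : Chart Q z eta pi) : Type _ := {q : G // q ∈ Q ∧ eta q ∈ Y2}

theorem card_YY (h : Chart Q z eta pi) : Nat.card (YY h) = 1104 := by
  classical
  obtain ⟨s, hs⟩ := h.exists_sec
  have he : ∀ r : ZMod 2, (if r = 0 then (1 : G) else z) ∈ Q ∧ eta (if r = 0 then (1 : G) else z) = 0 := by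
    intro r
    split_ifs
    · exact ⟨Q.one_mem, h.eta_one⟩
    · exact ⟨h.large.z_mem, h.eta_z⟩
  let g : Y2 × ZMod 2 → YY h := fun x => ⟨s x.1 * (if x.2 = 0 then (1 : G) else z), Q.mul_mem (s x.1).2 (he x.2).1, by
    rw [h.eta_mul _ (s x.1).2 _ (he x.2).1, (he x.2).2, add_zero, hs]; exact x.1.2⟩
  have g0 : ∀ x : Y2, (g (x, 0)).1 = s x := fun x => by
    show s x * (if (0 : ZMod 2) = 0 then (1 : G) else z) = s x
    rw [if_pos rfl, mul_one]
  have g1 : ∀ x : Y2, (g (x, 1)).1 = s x * z := fun x => by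
    show s x * (if (1 : ZMod 2) = 0 then (1 : G) else z) = s x * z
    rw [if_neg one_ne_zero]
  have ge : ∀ x, eta (g x).1 = x.1 := by
    rintro ⟨x, r⟩
    rcases zmod2_cases r with rfl | rfl
    · rw [g0, hs]
    · rw [g1, h.eta_mul _ (s x).2 _ h.large.z_mem, h.eta_z, add_zero, hs]
  have hz : z ≠ 1 := h.large.z_ne
  have hg : Function.Bijective g := by
    constructor
    · rintro ⟨x, r⟩ ⟨x', r'⟩ hxx
      have h1 : x = x' := by
        apply Subtype.ext
        rw [← ge (x, r), hxx, ge]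
      subst h1
      have h2 := congrArg Subtype.val hxx
      rcases zmod2_cases r with rfl | rfl <;> rcases zmod2_cases r' with rfl | rfl
      · rfl
      · rw [g0, g1] at h2
        exact absurd (left_eq_mul.1 h2) hz
      · rw [g0, g1] at h2
        exact absurd (left_eq_mul.1 h2.symm) hz
      · rfl
    · rintro ⟨q, hq, hqY⟩
      have h1 : eta q = eta (s (eta q)) := by rw [hs]
      rcases (h.eta_eq hq (s (eta q)).2).1 h1 with h2 | h2
      · exact ⟨(⟨eta q, hqY⟩, 0), Subtype.ext ((g0 _).trans h2.symm)⟩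
      · exact ⟨(⟨eta q, hqY⟩, 1), Subtype.ext ((g1 _).trans h2.symm)⟩
  rw [← Nat.card_congr (Equiv.ofBijective g hg), Nat.card_prod, card_Y2, Nat.card_zmod]

/-- the action of `DD` -/
@[instance_reducible] noncomputable def actYY (h : Chart Q z eta pi) : MulAction (DD pi) (YY h) where
  smul a q := ⟨(a : G) * q.1 * (a : G)⁻¹, by
    obtain ⟨ha, haF⟩ := mem_DD.1 a.2
    refine ⟨h.large.conj_mem a (Subgroup.mem_centralizer_singleton_iff.1 ha) _ q.2.1, ?_⟩
    rw [h.eta_conj ⟨a, ha⟩ _ q.2.1]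
    exact F_Y2 haF q.2.2⟩
  one_smul q := Subtype.ext (by
    show (1 : G) * q.1 * (1 : G)⁻¹ = q.1
    group)
  mul_smul a b q := Subtype.ext (by
    show ((a : G) * b) * q.1 * ((a : G) * b)⁻¹ = a * (b * q.1 * (b : G)⁻¹) * (a : G)⁻¹
    group)

/-- **An element of type 2 with large stabiliser.** -/
theorem exists_t [Finite G] (h : Chart Q z eta pi) : ∃ t ∈ Q, eta t ∈ Y2 ∧
    2 ^ 42 ∣ Nat.card (DD pi ⊓ Subgroup.centralizer {t} : Subgroup G) := by
  let _ := actYY h
  have hfin : Finite (YY h) := Nat.finite_of_card_ne_zero (by rw [card_YY]; norm_num)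
  obtain ⟨q, hq⟩ := exists_stab (A := DD pi) (X := YY h) (by rw [card_YY]; norm_num)
    (by rw [card_DD h]; norm_num)
  refine ⟨q.1, q.2.1, q.2.2, ?_⟩
  have : Nat.card (MulAction.stabilizer (DD pi) q) = Nat.card (DD pi ⊓ Subgroup.centralizer {q.1} : Subgroup G) := by
    refine Nat.card_congr ⟨fun a => ⟨a.1.1, a.1.2, ?_⟩, fun a => ⟨⟨a.1, a.2.1⟩, ?_⟩, fun a => rfl, fun a => rfl⟩
    · have h1 : (a.1 : G) * q.1 * (a.1 : G)⁻¹ = q.1 := congrArg Subtype.val a.2
      rw [mul_inv_eq_iff_eq_mul] at h1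
      exact Subgroup.mem_centralizer_singleton_iff.2 h1
    · have h1 := Subgroup.mem_centralizer_singleton_iff.1 a.2.2
      apply Subtype.ext
      show (a.1 : G) * q.1 * (a.1 : G)⁻¹ = q.1
      rw [mul_inv_eq_iff_eq_mul]
      exact h1
  rw [← this]
  exact hq

/-! ### The bound -/

/-- **The 2-rank of the Baby Monster is at most 14.** -/
theorem baby_le : PRankLE 2 14 Spor.BabyMonster := by
  intro A hA hA2
  have hfin := Cfsg.Agent.H848.MonsterSetup.finite
  obtain ⟨Q, z, eta, pi, y, τ, h, hyQ, hy, -, -⟩ := Cfsg.Agent.H848.MonsterSetup.exists_setup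
  obtain ⟨t, htQ, htY, h42⟩ := exists_t h
  obtain ⟨ht2, -, -, hc2, hcz, ⟨f⟩, -⟩ := Cfsg.Agent.H819.TwoACent.main h htQ (type_two htY)
  obtain ⟨e, hte⟩ := htY
  have hpt : Pt h t e := ⟨htQ, hte.1, hte.2.2, Or.inr hte.2.1, fun h0 => absurd hte.2.1 (by omega)⟩
  set C : Subgroup Spor.Monster := Subgroup.centralizer ({t} : Set Spor.Monster) with hC
  let π : C →* Spor.BabyMonster := f.toMonoidHom.comp (QuotientGroup.mk' (Subgroup.center C))
  have hπs : Function.Surjective π := f.surjective.comp (QuotientGroup.mk'_surjective _)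
  have hker : ∀ x : C, π x = 1 ↔ (x : Spor.Monster) ∈ Subgroup.zpowers t := by
    intro x
    have h1 : π x = 1 ↔ x ∈ Subgroup.center C := by
      show f (QuotientGroup.mk' _ x) = 1 ↔ _
      rw [map_eq_one_iff f f.injective, ← MonoidHom.mem_ker, QuotientGroup.ker_mk']
    rw [h1, ← hcz]
    constructor
    · intro hx
      exact ⟨x, hx, rfl⟩
    · rintro ⟨x', hx', hxx⟩
      rwa [← show x' = x from Subtype.ext hxx]
  have hcomm : ∀ a ∈ A, ∀ b ∈ A, a * b = b * a := fun a ha b hb =>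
    congrArg Subtype.val (hA.is_comm.comm (⟨a, ha⟩ : A) ⟨b, hb⟩)
  -- the order of the centraliser
  have hkercard : Nat.card π.ker = 2 := by
    rw [← hc2]
    have : π.ker = Subgroup.center C := by
      ext x
      rw [MonoidHom.mem_ker]
      show f (QuotientGroup.mk' _ x) = 1 ↔ _
      rw [map_eq_one_iff f f.injective, ← MonoidHom.mem_ker, QuotientGroup.ker_mk']
    rw [this]
  have hCcard : Nat.card C = 2 * 4154781481226426191177580544000000 := by
    have h1 := π.ker.card_mul_index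
    rw [Subgroup.index_ker, MonoidHom.range_eq_top.2 hπs, hkercard, Subgroup.card_top,
      Cfsg.Agent.H973.BabyCov.cardB] at h1
    exact h1.symm
  -- the inverse image of `A`
  set Fh : Subgroup Spor.Monster := (A.comap π).map C.subtype with hFh
  have hFC : Fh ≤ C := by
    rintro _ ⟨x, -, rfl⟩
    exact x.2
  have hmemF : ∀ x : C, (x : Spor.Monster) ∈ Fh ↔ π x ∈ A := by
    intro x
    constructor
    · rintro ⟨x', hx', hxx⟩
      rwa [← show x' = x from Subtype.ext hxx]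
    · intro hx
      exact ⟨x, hx, rfl⟩
  have hFcard : Nat.card Fh = 2 * Nat.card A := by
    have h1 : Nat.card Fh = Nat.card (A.comap π) :=
      Nat.card_congr (Subgroup.equivMapOfInjective _ _ (Subgroup.subtype_injective _)).toEquiv.symm
    have h2 := Cfsg.Agent.H848.TrioK.card_map_mul π (A.comap π) (by
      intro x hx
      rw [MonoidHom.mem_ker] at hx
      show π x ∈ A
      rw [hx]; exact A.one_mem)
    rw [Subgroup.map_comap_eq_self_of_surjective hπs, hkercard] at h2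
    rw [h1, ← h2, mul_comm]
  have hFmod : EAmod (Subgroup.zpowers t) Fh := by
    constructor
    · intro a ha b hb
      have h1 := (hmemF ⟨a, hFC ha⟩).1 ha
      have h2 := (hmemF ⟨b, hFC hb⟩).1 hb
      have h3 : π (⟨a, hFC ha⟩ * ⟨b, hFC hb⟩ * ⟨a, hFC ha⟩⁻¹ * ⟨b, hFC hb⟩⁻¹) = 1 := by
        rw [map_mul, map_mul, map_mul, map_inv, map_inv, hcomm _ h1 _ h2]; group
      exact (hker _).1 h3
    · intro a ha
      have h1 := (hmemF ⟨a, hFC ha⟩).1 ha
      have h3 : π (⟨a, hFC ha⟩ * ⟨a, hFC ha⟩) = 1 := by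
        rw [map_mul, ← pow_two, hA2 _ h1]
      exact (hker _).1 h3
  have ht1 : t * t = 1 := by
    rw [← pow_two, ← ht2, pow_orderOf_eq_one]
  have hpT : ∀ x ∈ Subgroup.zpowers t, x * x = 1 := fun x hx => zpowers_sq ht1 hx
  have hFp : IsPGroup 2 Fh := by
    rintro ⟨a, ha⟩
    refine ⟨2, Subtype.ext ?_⟩
    show a ^ 2 ^ 2 = 1
    have : a ^ 2 ^ 2 = (a * a) * (a * a) := by rw [show (2 : ℕ) ^ 2 = 4 by norm_num, pow_succ, pow_succ, pow_two]; group
    rw [this]
    exact hpT _ (hFmod.2 a ha)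
  have htF : t ∈ Fh := by
    have htC : t ∈ C := Subgroup.mem_centralizer_singleton_iff.2 rfl
    rw [show t = ((⟨t, htC⟩ : C) : Spor.Monster) from rfl, hmemF, (hker _).2 (Subgroup.mem_zpowers t)]
    exact A.one_mem
  -- conjugate into `DD`
  set D : Subgroup Spor.Monster := DD pi ⊓ C with hD
  have hodd : Odd (D.relIndex C) := by
    have h1 : D.relIndex C * Nat.card D = Nat.card C := by
      have h3 := (D.subgroupOf C).card_mul_index
      rw [Nat.card_congr (Subgroup.subgroupOfEquivOfLe (inf_le_right : D ≤ C)).toEquiv, mul_comm] at h3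
      exact h3
    obtain ⟨m, hm⟩ := h42
    rw [hm, hCcard] at h1
    rw [← Nat.not_even_iff_odd]
    rintro ⟨k, hk⟩
    rw [hk] at h1
    have h2 : (k * m) * 2 ^ 43 = 2 * 4154781481226426191177580544000000 := by
      rw [← h1]; ring
    omega
  obtain ⟨c, hcC, hc⟩ := exists_conj_le (D := D) (C := C) (E := Fh) hFC hodd hFp
  set E' : Subgroup Spor.Monster := Fh.map (MulAut.conj c⁻¹).toMonoidHom with hE'
  have hmem : ∀ x ∈ E', ∃ a ∈ Fh, x = c⁻¹ * a * c := by
    rintro _ ⟨a, ha, rfl⟩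
    exact ⟨a, ha, by simp⟩
  have hcard : Nat.card E' = Nat.card Fh :=
    Nat.card_congr (Subgroup.equivMapOfInjective _ _ (MulAut.conj c⁻¹).injective).toEquiv.symm
  have hct : c⁻¹ * t * c = t := by
    have := Subgroup.mem_centralizer_singleton_iff.1 hcC
    rw [mul_assoc, ← this]; group
  have hconjT : ∀ x ∈ Subgroup.zpowers t, c⁻¹ * x * c ∈ Subgroup.zpowers t := by
    intro x hx
    have h1 : c * x = x * c := zpowers_comm (Subgroup.mem_centralizer_singleton_iff.1 hcC) hx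
    have : c⁻¹ * x * c = x := by rw [mul_assoc, ← h1]; group
    rw [this]; exact hx
  have hED : ∀ x ∈ E', x ∈ D := by
    intro x hx
    obtain ⟨a, ha, rfl⟩ := hmem x hx
    exact hc a ha
  have hbound := card_le_F (y := y) hyQ hy hpt (E := E')
    (fun a ha => Subgroup.mem_centralizer_singleton_iff.1 (mem_DD.1 (hED a ha).1).choose)
    (fun a ha => (mem_DD.1 (hED a ha).1).choose_spec)
    (fun a ha => Subgroup.mem_centralizer_singleton_iff.1 (hED a ha).2)
    ⟨t, htF, by
      show (MulAut.conj c⁻¹) t = t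
      rw [MulAut.conj_apply, inv_inv]; exact hct⟩
    ⟨fun a ha b hb => by
      obtain ⟨a', ha', rfl⟩ := hmem a ha
      obtain ⟨b', hb', rfl⟩ := hmem b hb
      have := hconjT _ (hFmod.1 a' ha' b' hb')
      have h2 : c⁻¹ * a' * c * (c⁻¹ * b' * c) * (c⁻¹ * a' * c)⁻¹ * (c⁻¹ * b' * c)⁻¹ =
          c⁻¹ * (a' * b' * a'⁻¹ * b'⁻¹) * c := by group
      rw [h2]; exact this, fun a ha => by
      obtain ⟨a', ha', rfl⟩ := hmem a ha
      have := hconjT _ (hFmod.2 a' ha')
      have h2 : c⁻¹ * a' * c * (c⁻¹ * a' * c) = c⁻¹ * (a' * a') * c := by group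
      rw [h2]; exact this⟩
  rw [hcard, hFcard] at hbound
  omega

end Cfsg.Agent.H332.BabyUpper
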