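import Cfsg.Agent.H332.Reduce
import Cfsg.Agent.H848.MonsterSetup

/-!
# The Monster has 2-rank at most 15
-/

set_option autoImplicit false

open Cfsg

namespace Cfsg.Agent.H332.MonUpper

open Cfsg.Agent.MonsterU.Lam2
open Cfsg.Agent.MonsterU.CoFrameL2
open Cfsg.Agent.MonsterU.Ch
open Cfsg.Agent.H848.TrioU (pairL pairL_zero)
open Cfsg.Agent.H332.GolayE
open Cfsg.Agent.H332.Replace
open Cfsg.Agent.H332.Upper
open Cfsg.Agent.H332.Reduce
open Cfsg.Spor (Co1)

variable {G : Type*} [Group G] {Q : Subgroup G} {z : G} {eta : G → L2}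
  {pi : Subgroup.centralizer ({z} : Set G) →* Co1}

/-- the inverse image of the frame stabiliser -/
def DD (pi : Subgroup.centralizer ({z} : Set G) →* Co1) : Subgroup G :=
  (F.comap pi).map (Subgroup.centralizer ({z} : Set G)).subtype

theorem mem_DD {a : G} : a ∈ DD pi ↔ ∃ ha : a ∈ Subgroup.centralizer ({z} : Set G), pi ⟨a, ha⟩ ∈ F := by
  constructor
  · rintro ⟨x, hx, rfl⟩
    exact ⟨x.2, hx⟩
  · rintro ⟨ha, h⟩
    exact ⟨⟨a, ha⟩, h, rfl⟩

theorem card_DD (h : Chart Q z eta pi) : Nat.card (DD pi) = 2 ^ 25 * (2048 * 244823040) := by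
  have h1 : Nat.card (DD pi) = Nat.card (F.comap pi) :=
    Nat.card_congr (Subgroup.equivMapOfInjective _ _ (Subgroup.subtype_injective _)).toEquiv.symm
  have h2 := Cfsg.Agent.H848.TrioK.card_map_mul pi (F.comap pi) (by
    intro x hx
    rw [MonoidHom.mem_ker] at hx
    show pi x ∈ F
    rw [hx]; exact F.one_mem)
  rw [Subgroup.map_comap_eq_self_of_surjective h.pi_surj] at h2
  have h3 : Nat.card pi.ker = Nat.card Q := by
    refine Nat.card_congr ⟨fun x => ⟨x.1.1, (h.pi_eq_one x.1).1 x.2⟩, fun q => ⟨⟨q.1,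
      Subgroup.mem_centralizer_singleton_iff.2 (h.large.comm_z q q.2)⟩, (h.pi_eq_one _).2 q.2⟩,
      fun x => rfl, fun q => rfl⟩
  have h4 : Nat.card F = 2048 * 244823040 := Cfsg.Agent.MonsterU.CoFrameF.card_F
  rw [h1, ← h2, h3, h.card_Q, h4, mul_comm]

theorem pt_one (h : Chart Q z eta pi) : Pt h 1 ∅ :=
  { tQ := Q.one_mem
    eta_t := by rw [h.eta_one]; exact W12.zero_mem
    pair_t := fun d => by rw [h.eta_one, pairL_zero, Finset.sum_empty]
    ok := Or.inl rfl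
    t_one := fun _ => rfl }

/-- **The 2-rank of the Monster is at most 15.** -/
theorem monster_le : PRankLE 2 15 Spor.Monster := by
  intro A hA hA2
  have hfin := Cfsg.Agent.H848.MonsterSetup.finite
  obtain ⟨Q, z, eta, pi, y, τ, h, hyQ, hy, -, -⟩ := Cfsg.Agent.H848.MonsterSetup.exists_setup
  have hcomm : ∀ a ∈ A, ∀ b ∈ A, a * b = b * a := fun a ha b hb =>
    congrArg Subtype.val (hA.is_comm.comm (⟨a, ha⟩ : A) ⟨b, hb⟩)
  have hp : IsPGroup 2 A := by
    rintro ⟨a, ha⟩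
    exact ⟨1, Subtype.ext (by
      show a ^ 2 ^ 1 = 1
      rw [pow_one]; exact hA2 a ha)⟩
  have hodd : Odd ((DD pi).relIndex ⊤) := by
    rw [Subgroup.relIndex_top_right]
    have h1 := (DD pi).card_mul_index
    rw [card_DD h, Cfsg.Agent.H848.MonsterSetup.card] at h1
    rw [← Nat.not_even_iff_odd]
    rintro ⟨k, hk⟩
    rw [hk] at h1
    omega
  obtain ⟨c, -, hc⟩ := exists_conj_le (D := DD pi) (C := ⊤) (E := A) le_top hodd hp
  set E : Subgroup Spor.Monster := A.map (MulAut.conj c⁻¹).toMonoidHom with hE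
  have hmem : ∀ x ∈ E, ∃ a ∈ A, x = c⁻¹ * a * c := by
    rintro _ ⟨a, ha, rfl⟩
    exact ⟨a, ha, by simp⟩
  have hcard : Nat.card E = Nat.card A :=
    Nat.card_congr (Subgroup.equivMapOfInjective _ _ (MulAut.conj c⁻¹).injective).toEquiv.symm
  rw [← hcard]
  have hED : ∀ x ∈ E, ∃ hx : x ∈ Subgroup.centralizer ({z} : Set Spor.Monster), pi ⟨x, hx⟩ ∈ F := by
    intro x hx
    obtain ⟨a, ha, rfl⟩ := hmem x hx
    exact mem_DD.1 (hc a ha)
  refine card_le_F (y := y) hyQ hy (pt_one h) (E := E)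
    (fun a ha => Subgroup.mem_centralizer_singleton_iff.1 (hED a ha).1) (fun a ha => (hED a ha).2)
    (fun a _ => by rw [mul_one, one_mul]) E.one_mem ⟨fun a ha b hb => ?_, fun a ha => ?_⟩
  · obtain ⟨a', ha', rfl⟩ := hmem a ha
    obtain ⟨b', hb', rfl⟩ := hmem b hb
    have : c⁻¹ * a' * c * (c⁻¹ * b' * c) * (c⁻¹ * a' * c)⁻¹ * (c⁻¹ * b' * c)⁻¹ = 1 := by
      calc c⁻¹ * a' * c * (c⁻¹ * b' * c) * (c⁻¹ * a' * c)⁻¹ * (c⁻¹ * b' * c)⁻¹
          = c⁻¹ * (a' * b') * (b' * a')⁻¹ * c := by group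
        _ = 1 := by rw [hcomm a' ha' b' hb']; group
    rw [this]
    exact Subgroup.one_mem _
  · obtain ⟨a', ha', rfl⟩ := hmem a ha
    have : c⁻¹ * a' * c * (c⁻¹ * a' * c) = 1 := by
      calc c⁻¹ * a' * c * (c⁻¹ * a' * c) = c⁻¹ * (a' ^ 2) * c := by rw [pow_two]; group
        _ = 1 := by rw [hA2 a' ha']; group
    rw [this]
    exact Subgroup.one_mem _

end Cfsg.Agent.H332.MonUpper
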