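import Cfsg.Agent.H332.GolayK

/-!
# The dimension bound

`K ≤ M24` elementary abelian and quadratic on `Ge e` modulo the all-one word, `C`, `H` spaces of words of `Ge e` with
`c g` a word modulo `e` for `c ∈ C`, `g ∈ H`, and `I` containing the commutators of `K` with `Ge e`.  Then
`|K| = 2 ^ k` with `dim C + dim H + k ≤ 3 + dim (C + H + I)`.
-/

set_option autoImplicit false

open Cfsg

namespace Cfsg.Agent.H332.GolayBound

open Cfsg.Agent.H332.GolayE
open Cfsg.Agent.H332.GolayK
open Cfsg.Agent.SporadicStructure.LeechBase (zmod2_cases)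
open Module (finrank)

variable {e : Finset GolayPt} {K : Subgroup M24}

local notation "⟪" x "⟫" => ((x : M24) : Equiv.Perm GolayPt)

/-- the points of a word outside of `e` -/
def pts (e : Finset GolayPt) (w : Wd) : Finset GolayPt := Finset.univ.filter fun p => p ∉ e ∧ w p ≠ 0

theorem mem_pts {w : Wd} {p : GolayPt} : p ∈ pts e w ↔ p ∉ e ∧ w p = 1 := by
  rw [pts, Finset.mem_filter, ne_zero_iff]
  simp

theorem card_pts (w : Wd) : (pts e w).card = wt' e w := rfl

theorem one_add_cases (a : ZMod 2) : a = 0 ∨ a = 1 := zmod2_cases a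

/-- one of a word and its complement is small -/
theorem exists_small (he : Ok e) {c : Wd} : wt' e c + 2 * e.card < 16 ∨ wt' e (1 + c) + 2 * e.card < 16 := by
  have h1 : wt' e (1 : Wd) = wt' e ((1 + c) + c) := by
    congr 1
    rw [add_assoc, add_self', add_zero]
  have h2 := wt'_one (e := e)
  rw [wt'_add (e := e) (a := 1 + c) (b := c)] at h1
  · rcases he with h | h <;> omega
  · intro p _
    have key : ∀ x : ZMod 2, (1 + x) * x = 0 := by decide
    exact key _

/-- **A separating commutator.** -/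
theorem exists_diff (h : Good e K) {s : M24} (hs : s ∈ K) {p q : GolayPt} (hp : p ∉ e) (hq : q ∉ e) (hpq : p ≠ q)
    (h1 : ⟪s⟫ p ≠ p) (h2 : ⟪s⟫ p ≠ q) : ∃ O ∈ Ge e, (O + mv s O) p = 1 ∧ (O + mv s O) q = 0 := by
  classical
  obtain ⟨O, hO, hv⟩ := interp h.ok ({p, ⟪s⟫ p, q, ⟪s⟫ q} : Finset GolayPt)
    ((Finset.card_le_four).trans (by norm_num)) (by
      rw [Finset.disjoint_left]
      intro r hr1 hr2
      simp only [Finset.mem_insert, Finset.mem_singleton] at hr1
      rcases hr1 with rfl | rfl | rfl | rfl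
      · exact hp hr2
      · exact hp ((h.inv s hs p).1 hr2)
      · exact hq hr2
      · exact hq ((h.inv s hs q).1 hr2))
    (fun r => if r = p then 1 else 0)
  refine ⟨O, hO, ?_, ?_⟩
  · rw [Pi.add_apply, mv_apply, hv p (by simp), hv (⟪s⟫ p) (by simp), if_pos rfl, if_neg h1, add_zero]
  · rw [Pi.add_apply, mv_apply, hv q (by simp), hv (⟪s⟫ q) (by simp), if_neg hpq.symm, if_neg, add_zero]
    intro h3
    apply h2
    rw [← h3, sq_app h hs]

/-- the submodule of words taking the same value at two points -/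
def Eq2 (p q : GolayPt) : Submodule (ZMod 2) Wd where
  carrier := {w | w p = w q}
  zero_mem' := rfl
  add_mem' := by
    intro a b ha hb
    show a p + b p = a q + b q
    rw [show a p = a q from ha, show b p = b q from hb]
  smul_mem' := by
    intro c a ha
    show c • a p = c • a q
    rw [show a p = a q from ha]

theorem mem_Eq2 {p q : GolayPt} {w : Wd} : w ∈ Eq2 p q ↔ w p = w q := Iff.rfl

theorem const_pair {c g : Wd} (hc : c ∈ golayCode)
    (hp : ∃ h ∈ golayCode, (c * g = h ∨ c * g = h + ind1 e)) (hw : wt' e c + 2 * e.card < 16)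
    {p q : GolayPt} (hpc : p ∈ pts e c) (hqc : q ∈ pts e c) : g ∈ Eq2 p q := by
  rw [mem_pts] at hpc hqc
  rcases const_on hc hp hw with h | h
  · rw [mem_Eq2, h p hpc.1 hpc.2, h q hqc.1 hqc.2]
  · rw [mem_Eq2, h p hpc.1 hpc.2, h q hqc.1 hqc.2]

/-- the hypotheses on the spaces of words -/
structure Data (e : Finset GolayPt) (K : Subgroup M24) (C H I : Submodule (ZMod 2) Wd) : Prop where
  good : Good e K
  quad : Quad e K
  C_le : C ≤ Ge e
  H_le : H ≤ Ge e
  one_C : (1 : Wd) ∈ C
  one_H : (1 : Wd) ∈ H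
  prod : ∀ c ∈ C, ∀ g ∈ H, ∃ h ∈ golayCode, (c * g = h ∨ c * g = h + ind1 e)
  comm : ∀ s ∈ K, ∀ O ∈ Ge e, O + mv s O ∈ I

variable {C H I : Submodule (ZMod 2) Wd}

namespace Data

theorem sup_const (d : Data e K C H I) {c : Wd} (hc : c ∈ C ⊓ H) (hw : wt' e c + 2 * e.card < 16)
    {p q : GolayPt} (hpc : p ∈ pts e c) (hqc : q ∈ pts e c) : C ⊔ H ≤ Eq2 p q := by
  refine sup_le (fun g hg => ?_) (fun g hg => ?_)
  · refine const_pair (d.C_le hc.1).1 ?_ hw hpc hqc
    obtain ⟨h, hh, h1⟩ := d.prod g hg c hc.2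
    exact ⟨h, hh, by rwa [mul_comm c g]⟩
  · exact const_pair (d.C_le hc.1).1 (d.prod c hc.1 g hg) hw hpc hqc

theorem finrank_sum (C H : Submodule (ZMod 2) Wd) :
    finrank (ZMod 2) C + finrank (ZMod 2) H =
      finrank (ZMod 2) (C ⊔ H : Submodule (ZMod 2) Wd) + finrank (ZMod 2) (C ⊓ H : Submodule (ZMod 2) Wd) :=
  (Submodule.finrank_sup_add_finrank_inf_eq C H).symm

theorem card_pts_ge (d : Data e K C H I) {c : Wd} (hc : c ∈ golayCode) (h0 : c ≠ 0) : 6 ≤ (pts e c).card := by
  have := dmin (e := e) hc h0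
  rw [card_pts]
  rcases d.good.ok with h | h <;> omega

/-- the span of finitely many words -/
theorem finrank_le_of (P : Submodule (ZMod 2) Wd) (s : Finset Wd) (h : ∀ w ∈ P, w ∈ Submodule.span (ZMod 2) (s : Set Wd)) :
    finrank (ZMod 2) P ≤ s.card :=
  (Submodule.finrank_mono h).trans (finrank_span_finset_le_card s)

/-- the case of a large intersection -/
theorem big (d : Data e K C H I) {k : ℕ} (hk : Nat.card K = 2 ^ k) (hk2 : k ≤ 2) {c g : Wd} (hc : c ∈ C ⊓ H) (hg : g ∈ C ⊓ H)
    (hc0 : c ≠ 0) (hw : wt' e c + 2 * e.card < 16) (hg0 : g ≠ 0) (hgc : g ≠ 1 + c) (hd : ∀ p ∈ pts e c, g p = 0) :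
    finrank (ZMod 2) C + finrank (ZMod 2) H + k ≤ 3 + finrank (ZMod 2) (C ⊔ H ⊔ I : Submodule (ZMod 2) Wd) := by
  classical
  set g' : Wd := 1 + c + g with hg'
  have h1P : (1 : Wd) ∈ C ⊓ H := ⟨d.one_C, d.one_H⟩
  have hg'P : g' ∈ C ⊓ H := (C ⊓ H).add_mem ((C ⊓ H).add_mem h1P hc) hg
  have hg'0 : g' ≠ 0 := by
    intro h
    apply hgc
    have h2 : 1 + c + g + g = 0 + g := by rw [← hg', h]
    rw [add_assoc, add_self', add_zero, zero_add] at h2
    exact h2.symm
  have hcG := (d.C_le hc.1).1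
  have hgG := (d.C_le hg.1).1
  have hg'G := (d.C_le hg'P.1).1
  -- disjointness
  have dis : ∀ p ∉ e, (c p = 1 ∧ g p = 0 ∧ g' p = 0) ∨ (c p = 0 ∧ g p = 1 ∧ g' p = 0) ∨
      (c p = 0 ∧ g p = 0 ∧ g' p = 1) := by
    intro p hp
    have e1 : g' p = 1 + c p + g p := rfl
    rcases zmod2_cases (c p) with h1 | h1
    · rcases zmod2_cases (g p) with h2 | h2
      · right; right
        refine ⟨h1, h2, ?_⟩
        rw [e1, h1, h2]; decide
      · right; left
        refine ⟨h1, h2, ?_⟩
        rw [e1, h1, h2]; decide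
    · have h2 := hd p (mem_pts.2 ⟨hp, h1⟩)
      left
      refine ⟨h1, h2, ?_⟩
      rw [e1, h1, h2]; decide
  have w1 : wt' e (c + g) = wt' e c + wt' e g := wt'_add fun p hp => by
    rcases dis p hp with h | h | h
    · rw [h.2.1, mul_zero]
    · rw [h.1, zero_mul]
    · rw [h.1, zero_mul]
  have w2 : wt' e (c + g + g') = wt' e (c + g) + wt' e g' := wt'_add fun p hp => by
    rcases dis p hp with h | h | h
    · rw [h.2.2, mul_zero]
    · rw [h.2.2, mul_zero]
    · rw [Pi.add_apply, h.1, h.2.1, add_zero, zero_mul]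
  have w3 : c + g + g' = 1 := by
    rw [hg']
    have : c + g + (1 + c + g) = 1 + (c + c) + (g + g) := by abel
    rw [this, add_self', add_self', add_zero, add_zero]
  rw [w3, w1] at w2
  have w4 := wt'_one (e := e)
  have m1 := dmin (e := e) hcG hc0
  have m2 := dmin (e := e) hgG hg0
  have m3 := dmin (e := e) hg'G hg'0
  have he := d.good.ok
  have hw2 : wt' e g + 2 * e.card < 16 := by rcases he with h | h <;> omega
  have hw3 : wt' e g' + 2 * e.card < 16 := by rcases he with h | h <;> omega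
  -- the span
  set S : Submodule (ZMod 2) Wd := Submodule.span (ZMod 2) (({c, g, g'} : Finset Wd) : Set Wd) with hS
  have hcS : c ∈ S := Submodule.subset_span (by simp)
  have hgS : g ∈ S := Submodule.subset_span (by simp)
  have hg'S : g' ∈ S := Submodule.subset_span (by simp)
  have hSP : S ≤ C ⊓ H := by
    rw [hS, Submodule.span_le]
    intro w hw
    rw [Finset.mem_coe, Finset.mem_insert, Finset.mem_insert, Finset.mem_singleton] at hw
    rcases hw with rfl | rfl | rfl
    · exact hc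
    · exact hg
    · exact hg'P
  have hPS : C ⊔ H ≤ S := by
    intro w hw'
    have n1 : (pts e c).Nonempty := by rw [← Finset.card_pos]; have := d.card_pts_ge hcG hc0; omega
    have n2 : (pts e g).Nonempty := by rw [← Finset.card_pos]; have := d.card_pts_ge hgG hg0; omega
    have n3 : (pts e g').Nonempty := by rw [← Finset.card_pos]; have := d.card_pts_ge hg'G hg'0; omega
    obtain ⟨a1, ha1⟩ := n1
    obtain ⟨a2, ha2⟩ := n2
    obtain ⟨a3, ha3⟩ := n3
    have hmem : w a1 • c + w a2 • g + w a3 • g' ∈ S :=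
      S.add_mem (S.add_mem (S.smul_mem _ hcS) (S.smul_mem _ hgS)) (S.smul_mem _ hg'S)
    have hwG : w ∈ golayCode := by
      have : C ⊔ H ≤ Ge e := sup_le d.C_le d.H_le
      exact (this hw').1
    have : w = w a1 • c + w a2 • g + w a3 • g' := by
      refine eq_of_off he hwG (d.C_le (hSP hmem).1).1 fun p hp => ?_
      rw [Pi.add_apply, Pi.add_apply, Pi.smul_apply, Pi.smul_apply, Pi.smul_apply, smul_eq_mul, smul_eq_mul,
        smul_eq_mul]
      rcases dis p hp with h | h | h
      · rw [h.1, h.2.1, h.2.2, mul_one, mul_zero, mul_zero, add_zero, add_zero]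
        exact d.sup_const hc hw (mem_pts.2 ⟨hp, h.1⟩) ha1 hw'
      · rw [h.1, h.2.1, h.2.2, mul_one, mul_zero, mul_zero, add_zero, zero_add]
        exact d.sup_const hg hw2 (mem_pts.2 ⟨hp, h.2.1⟩) ha2 hw'
      · rw [h.1, h.2.1, h.2.2, mul_one, mul_zero, mul_zero, zero_add, zero_add]
        exact d.sup_const hg'P hw3 (mem_pts.2 ⟨hp, h.2.2⟩) ha3 hw'
    rw [this]
    exact hmem
  have hS3 : finrank (ZMod 2) S ≤ 3 := (finrank_span_finset_le_card _).trans Finset.card_le_three
  have hCS : C = S := le_antisymm (le_sup_left.trans hPS) (hSP.trans inf_le_left)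
  have hHS : H = S := le_antisymm (le_sup_right.trans hPS) (hSP.trans inf_le_right)
  have hCH : C ⊔ H = S := by rw [hCS, hHS, sup_idem]
  rw [hCH, hCS, hHS]
  -- elements of `S` are constant on the three parts
  have hS1 : ∀ {p q : GolayPt}, p ∈ pts e c → q ∈ pts e c → S ≤ Eq2 p q := fun hp hq => by
    rw [← hCH]; exact d.sup_const hc hw hp hq
  have hS2 : ∀ {p q : GolayPt}, p ∈ pts e g → q ∈ pts e g → S ≤ Eq2 p q := fun hp hq => by
    rw [← hCH]; exact d.sup_const hg hw2 hp hq
  have hlt : ∀ D ∈ I, D ∉ S → finrank (ZMod 2) S + 1 ≤ finrank (ZMod 2) (S ⊔ I : Submodule (ZMod 2) Wd) := by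
    intro D hD hDS
    refine Submodule.finrank_lt_finrank_of_lt (lt_of_le_of_ne le_sup_left ?_)
    intro h1
    apply hDS
    rw [h1]
    exact (le_sup_right : I ≤ S ⊔ I) hD
  interval_cases k
  · have h1 : finrank (ZMod 2) S ≤ finrank (ZMod 2) (S ⊔ I : Submodule (ZMod 2) Wd) := Submodule.finrank_mono le_sup_left
    omega
  · -- `|K| = 2`
    have h2 : ∃ s ∈ K, s ≠ 1 := by
      by_contra hno
      push Not at hno
      have : K = ⊥ := (Subgroup.eq_bot_iff_forall K).2 hno
      rw [this, Subgroup.card_bot] at hk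
      omega
    obtain ⟨s, hs, hs1⟩ := h2
    have hfix := fix_le (d.good.sq s hs) hs1
    -- a part on which `s` is not trivial
    have h3 : ∃ w : Wd, 6 ≤ (pts e w).card ∧ (∀ {p q : GolayPt}, p ∈ pts e w → q ∈ pts e w → S ≤ Eq2 p q) ∧
        ∃ a ∈ pts e w, ⟪s⟫ a ≠ a := by
      by_cases h4 : ∃ a ∈ pts e c, ⟪s⟫ a ≠ a
      · exact ⟨c, d.card_pts_ge hcG hc0, fun hp hq => hS1 hp hq, h4⟩
      · by_cases h5 : ∃ a ∈ pts e g, ⟪s⟫ a ≠ a
        · exact ⟨g, d.card_pts_ge hgG hg0, fun hp hq => hS2 hp hq, h5⟩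
        · exfalso
          push Not at h4 h5
          have h6 : (pts e c ∪ pts e g) ⊆ Finset.univ.filter fun p : GolayPt => ⟪s⟫ p = p := by
            intro p hp
            rw [Finset.mem_filter]
            rcases Finset.mem_union.1 hp with hp | hp
            · exact ⟨Finset.mem_univ _, h4 p hp⟩
            · exact ⟨Finset.mem_univ _, h5 p hp⟩
          have h7 : Disjoint (pts e c) (pts e g) := by
            rw [Finset.disjoint_left]
            intro p hp hp'
            rw [mem_pts] at hp'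
            have := hd p hp
            rw [hp'.2] at this
            exact absurd this (by decide)
          have h8 := Finset.card_le_card h6
          rw [Finset.card_union_of_disjoint h7] at h8
          have h9 := d.card_pts_ge hcG hc0
          have h10 := d.card_pts_ge hgG hg0
          omega
    obtain ⟨w, hw6, hwS, a, ha, hsa⟩ := h3
    obtain ⟨b, hb⟩ : (pts e w \ {a, ⟪s⟫ a}).Nonempty := by
      rw [← Finset.card_pos]
      have h1 := Finset.le_card_sdiff ({a, ⟪s⟫ a} : Finset GolayPt) (pts e w)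
      have h2 := Finset.card_le_two (a := a) (b := ⟪s⟫ a)
      omega
    simp only [Finset.mem_sdiff, Finset.mem_insert, Finset.mem_singleton, not_or] at hb
    obtain ⟨O, hO, hD1, hD0⟩ := exists_diff d.good hs (mem_pts.1 ha).1 (mem_pts.1 hb.1).1 (Ne.symm hb.2.1) hsa
      (Ne.symm hb.2.2)
    have := hlt _ (d.comm s hs O hO) fun h4 => by
      have h5 := hwS ha hb.1 h4
      rw [mem_Eq2, hD1, hD0] at h5
      exact absurd h5 (by decide)
    omega
  · -- `|K| = 4`
    obtain ⟨x, hx, y, hy, z, hz, s1, s2, s3, s4, s5, s6⟩ := exists_three d.good d.quad hk (d.card_pts_ge hcG hc0)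
    -- separating elements of `I`
    have hsep : ∀ {p q : GolayPt}, p ∈ pts e c → q ∈ pts e c → Sep K p q → ∃ D ∈ I, D ∉ Eq2 p q := by
      rintro p q hp hq ⟨hpq, s, hs, h1, h2⟩
      obtain ⟨O, hO, hD1, hD0⟩ := exists_diff d.good hs (mem_pts.1 hp).1 (mem_pts.1 hq).1 hpq h1 h2
      refine ⟨_, d.comm s hs O hO, fun h3 => ?_⟩
      rw [mem_Eq2, hD1, hD0] at h3
      exact absurd h3 (by decide)
    obtain ⟨D1, hD1, hD1'⟩ := hsep hx hy s1
    set S' : Submodule (ZMod 2) Wd := S ⊔ Submodule.span (ZMod 2) {D1} with hS'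
    have hSS' : finrank (ZMod 2) S < finrank (ZMod 2) S' := by
      refine Submodule.finrank_lt_finrank_of_lt (lt_of_le_of_ne le_sup_left ?_)
      intro h1
      apply hD1'
      apply hS1 hx hy
      rw [h1]
      exact (le_sup_right : _ ≤ S') (Submodule.mem_span_singleton_self D1)
    have hS'I : S' ≤ S ⊔ I := sup_le_sup_left (by
      rw [Submodule.span_le]
      intro w hw
      rw [Set.mem_singleton_iff] at hw
      rw [hw]
      exact hD1) S
    -- two points at which `D1` has the same value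
    have h7 : ∃ p ∈ pts e c, ∃ q ∈ pts e c, Sep K p q ∧ D1 ∈ Eq2 p q := by
      rcases zmod2_cases (D1 x) with h1 | h1 <;> rcases zmod2_cases (D1 y) with h2 | h2 <;>
        rcases zmod2_cases (D1 z) with h3 | h3
      · exact ⟨x, hx, y, hy, s1, h1.trans h2.symm⟩
      · exact ⟨x, hx, y, hy, s1, h1.trans h2.symm⟩
      · exact ⟨x, hx, z, hz, s3, h1.trans h3.symm⟩
      · exact ⟨y, hy, z, hz, s5, h2.trans h3.symm⟩
      · exact ⟨y, hy, z, hz, s5, h2.trans h3.symm⟩
      · exact ⟨x, hx, z, hz, s3, h1.trans h3.symm⟩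
      · exact ⟨x, hx, y, hy, s1, h1.trans h2.symm⟩
      · exact ⟨x, hx, y, hy, s1, h1.trans h2.symm⟩
    obtain ⟨p, hp, q, hq, hpq, hD1pq⟩ := h7
    obtain ⟨D2, hD2, hD2'⟩ := hsep hp hq hpq
    have h8 : S' ≤ Eq2 p q := sup_le (hS1 hp hq) (by
      rw [Submodule.span_le]
      intro w hw
      rw [Set.mem_singleton_iff] at hw
      rw [hw]
      exact hD1pq)
    have h9 : finrank (ZMod 2) S' < finrank (ZMod 2) (S ⊔ I : Submodule (ZMod 2) Wd) := by
      refine Submodule.finrank_lt_finrank_of_lt (lt_of_le_of_ne hS'I ?_)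
      intro h1
      apply hD2'
      apply h8
      rw [h1]
      exact (le_sup_right : I ≤ S ⊔ I) hD2
    omega

/-- **The dimension bound.** -/
theorem bound (d : Data e K C H I) : ∃ k, Nat.card K = 2 ^ k ∧
    finrank (ZMod 2) C + finrank (ZMod 2) H + k ≤ 3 + finrank (ZMod 2) (C ⊔ H ⊔ I : Submodule (ZMod 2) Wd) := by
  classical
  have hp : IsPGroup 2 K := by
    rintro ⟨x, hx⟩
    exact ⟨1, by
      apply Subtype.ext
      show x ^ (2 ^ 1) = 1
      rw [pow_one, pow_two, d.good.sq x hx]⟩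
  obtain ⟨k, hk⟩ := (IsPGroup.iff_card).1 hp
  have hk4 := card_le d.good d.quad
  have hk2 : k ≤ 2 := by
    by_contra h3
    have : 2 ^ 3 ≤ 2 ^ k := Nat.pow_le_pow_right (by norm_num) (by omega)
    omega
  refine ⟨k, hk, ?_⟩
  have hmono : finrank (ZMod 2) (C ⊔ H : Submodule (ZMod 2) Wd) ≤ finrank (ZMod 2) (C ⊔ H ⊔ I : Submodule (ZMod 2) Wd) :=
    Submodule.finrank_mono le_sup_left
  have hsum := finrank_sum C H
  have h1P : (1 : Wd) ∈ C ⊓ H := ⟨d.one_C, d.one_H⟩
  by_cases hA : ∀ c ∈ C ⊓ H, c = 0 ∨ c = 1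
  · have h1 : finrank (ZMod 2) (C ⊓ H : Submodule (ZMod 2) Wd) ≤ 1 := by
      refine (finrank_le_of _ {1} fun w hw => ?_).trans (by simp)
      rcases hA w hw with rfl | rfl
      · exact Submodule.zero_mem _
      · exact Submodule.subset_span (by simp)
    omega
  · push Not at hA
    obtain ⟨c₀, hc₀, hc₀0, hc₀1⟩ := hA
    -- a small word
    obtain ⟨c, hc, hc0, hc1, hw⟩ : ∃ c ∈ C ⊓ H, c ≠ 0 ∧ c ≠ 1 ∧ wt' e c + 2 * e.card < 16 := by
      rcases exists_small d.good.ok (c := c₀) with h1 | h1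
      · exact ⟨c₀, hc₀, hc₀0, hc₀1, h1⟩
      · refine ⟨1 + c₀, (C ⊓ H).add_mem h1P hc₀, fun h2 => hc₀1 ?_, fun h2 => hc₀0 ?_, h1⟩
        · have : 1 + (1 + c₀) = 1 + 0 := by rw [h2]
          rwa [← add_assoc, add_self', zero_add, add_zero] at this
        · have : 1 + (1 + c₀) = 1 + 1 := by rw [h2]
          rwa [← add_assoc, add_self', zero_add] at this
    by_cases hB : ∀ g ∈ C ⊓ H, g = 0 ∨ g = 1 ∨ g = c ∨ g = 1 + c
    · have h1 : finrank (ZMod 2) (C ⊓ H : Submodule (ZMod 2) Wd) ≤ 2 := by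
        refine (finrank_le_of _ {1, c} fun w hw => ?_).trans Finset.card_le_two
        have s1 : (1 : Wd) ∈ Submodule.span (ZMod 2) (({1, c} : Finset Wd) : Set Wd) := Submodule.subset_span (by simp)
        have s2 : c ∈ Submodule.span (ZMod 2) (({1, c} : Finset Wd) : Set Wd) := Submodule.subset_span (by simp)
        rcases hB w hw with rfl | rfl | rfl | rfl
        · exact Submodule.zero_mem _
        · exact s1
        · exact s2
        · exact Submodule.add_mem _ s1 s2
      by_cases hk' : k = 2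
      · subst hk'
        obtain ⟨x, hx, y, hy, z, hz, ⟨hxy, s, hs, t1, t2⟩, -⟩ := exists_three d.good d.quad hk
          (d.card_pts_ge (d.C_le hc.1).1 hc0)
        obtain ⟨O, hO, hD1, hD0⟩ := exists_diff d.good hs (mem_pts.1 hx).1 (mem_pts.1 hy).1 hxy t1 t2
        have h2 : finrank (ZMod 2) (C ⊔ H : Submodule (ZMod 2) Wd) <
            finrank (ZMod 2) (C ⊔ H ⊔ I : Submodule (ZMod 2) Wd) := by
          refine Submodule.finrank_lt_finrank_of_lt (lt_of_le_of_ne le_sup_left ?_)
          intro h3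
          have h4 : O + mv s O ∈ C ⊔ H := by
            rw [h3]
            exact (le_sup_right : I ≤ C ⊔ H ⊔ I) (d.comm s hs O hO)
          have h5 := d.sup_const hc hw hx hy h4
          rw [mem_Eq2, hD1, hD0] at h5
          exact absurd h5 (by decide)
        omega
      · omega
    · push Not at hB
      obtain ⟨g₀, hg₀, g0, g1, gc, g1c⟩ := hB
      have hpr := d.prod c hc.1 g₀ hg₀.2
      rcases const_on (d.C_le hc.1).1 hpr hw with h1 | h1
      · exact d.big hk hk2 hc hg₀ hc0 hw g0 g1c fun p hp => h1 p (mem_pts.1 hp).1 (mem_pts.1 hp).2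
      · refine d.big hk hk2 hc ((C ⊓ H).add_mem h1P hg₀) hc0 hw (fun h2 => g1 ?_) (fun h2 => gc ?_) fun p hp => ?_
        · have : 1 + (1 + g₀) = 1 + 0 := by rw [h2]
          rwa [← add_assoc, add_self', zero_add, add_zero] at this
        · exact add_left_cancel h2
        · rw [Pi.add_apply, h1 p (mem_pts.1 hp).1 (mem_pts.1 hp).2]
          show (1 : ZMod 2) + 1 = 0
          decide

end Data

end Cfsg.Agent.H332.GolayBound
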