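import Cfsg.Agent.SporadicStructure.GolayInterp
import Cfsg.Agent.SporadicStructure.GolayEven
import Cfsg.Agent.SporadicA.GolayWeight

/-!
# The Golay code relative to a pair of points

`e` is a set of at most two points (empty or a pair).  `Ge e` : the words with even intersection with `e`.
`wt' e w` : the number of points outside of `e` in the support of `w`.  A word of `Ge e` of weight (outside of `e`)
less than `2 (8 - |e|)` is indecomposable (`ind`); if the product of `c` and `g` is a word modulo `e`, then
`g` is constant on `c` outside of `e` (`const_on`).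
-/

set_option autoImplicit false

open Cfsg

namespace Cfsg.Agent.H332.GolayE

open Cfsg.Agent.SporadicStructure.LeechBase (zmod2_cases)

/-- the words of length 24 -/
abbrev Wd : Type := GolayPt → ZMod 2

/-- the words of the code with even intersection with `e` -/
def Ge (e : Finset GolayPt) : Submodule (ZMod 2) Wd where
  carrier := {w | w ∈ golayCode ∧ ∑ p ∈ e, w p = 0}
  zero_mem' := ⟨golayCode.zero_mem, by simp⟩
  add_mem' := by
    rintro a b ⟨ha, ha'⟩ ⟨hb, hb'⟩
    refine ⟨golayCode.add_mem ha hb, ?_⟩
    simp only [Pi.add_apply, Finset.sum_add_distrib, ha', hb', add_zero]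
  smul_mem' := by
    rintro c a ⟨ha, ha'⟩
    refine ⟨golayCode.smul_mem c ha, ?_⟩
    simp only [Pi.smul_apply, ← Finset.smul_sum, ha', smul_zero]

theorem mem_Ge {e : Finset GolayPt} {w : Wd} : w ∈ Ge e ↔ w ∈ golayCode ∧ ∑ p ∈ e, w p = 0 := Iff.rfl

/-- the indicator of `e` -/
def ind1 (e : Finset GolayPt) : Wd := fun p => if p ∈ e then 1 else 0

/-- the weight outside of `e` -/
def wt' (e : Finset GolayPt) (w : Wd) : ℕ := (Finset.univ.filter fun p => p ∉ e ∧ w p ≠ 0).card

/-- `e` is empty or a pair -/
def Ok (e : Finset GolayPt) : Prop := e.card = 0 ∨ e.card = 2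

variable {e : Finset GolayPt}

theorem card_pt : Fintype.card GolayPt = 24 := by decide

theorem add_self' (w : Wd) : w + w = 0 := by
  funext p
  have key : ∀ a : ZMod 2, a + a = 0 := by decide
  exact key _

theorem ne_zero_iff (a : ZMod 2) : a ≠ 0 ↔ a = 1 := by revert a; decide

theorem one_mem_code : (1 : Wd) ∈ golayCode := Submodule.subset_span (Or.inr rfl)

theorem one_mem_Ge (he : Ok e) : (1 : Wd) ∈ Ge e := by
  refine ⟨one_mem_code, ?_⟩
  simp only [Pi.one_apply, Finset.sum_const, nsmul_eq_mul, mul_one]
  rcases he with h | h <;> rw [h] <;> decide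

/-- a word of `Ge e` is constant on `e` -/
theorem const_e (he : Ok e) {w : Wd} (hw : w ∈ Ge e) {p q : GolayPt} (hp : p ∈ e) (hq : q ∈ e) :
    w p = w q := by
  rcases he with h | h
  · rw [Finset.card_eq_zero] at h
    subst h
    simp at hp
  · obtain ⟨i, j, hij, rfl⟩ := Finset.card_eq_two.1 h
    have h1 := hw.2
    rw [Finset.sum_pair hij] at h1
    have key : ∀ a b : ZMod 2, a + b = 0 → a = b := by decide
    have h2 := key _ _ h1
    simp only [Finset.mem_insert, Finset.mem_singleton] at hp hq
    rcases hp with rfl | rfl <;> rcases hq with rfl | rfl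
    · rfl
    · exact h2
    · exact h2.symm
    · rfl

theorem sum_mul_e (he : Ok e) {c g : Wd} (hc : c ∈ Ge e) (hg : g ∈ Ge e) : ∑ p ∈ e, c p * g p = 0 := by
  rcases he with h | h
  · rw [Finset.card_eq_zero] at h
    subst h
    simp
  · have h2 : Ok e := Or.inr h
    obtain ⟨i, j, hij, rfl⟩ := Finset.card_eq_two.1 h
    rw [Finset.sum_pair hij, const_e h2 hc (p := i) (q := j) (by simp) (by simp),
      const_e h2 hg (p := i) (q := j) (by simp) (by simp)]
    have key : ∀ a : ZMod 2, a + a = 0 := by decide
    exact key _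

theorem wt'_le (w : Wd) : wt' e w ≤ (support₂ w).card :=
  Finset.card_le_card fun p hp => by
    rw [Finset.mem_filter] at hp
    exact Finset.mem_filter.2 ⟨Finset.mem_univ _, hp.2.2⟩

theorem support_card_le (w : Wd) : (support₂ w).card ≤ wt' e w + e.card := by
  unfold wt'
  rw [← Finset.card_union_of_disjoint]
  · refine Finset.card_le_card fun p hp => ?_
    by_cases h : p ∈ e
    · exact Finset.mem_union_right _ h
    · exact Finset.mem_union_left _ (Finset.mem_filter.2 ⟨Finset.mem_univ _, h,
        (Finset.mem_filter.1 hp).2⟩)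
  · rw [Finset.disjoint_left]
    intro p hp hp'
    exact (Finset.mem_filter.1 hp).2.1 hp'

/-- the minimal weight -/
theorem dmin {w : Wd} (hw : w ∈ golayCode) (h0 : w ≠ 0) : 8 ≤ wt' e w + e.card :=
  (Cfsg.Agent.SporadicA.GolayWeight.eight_le_weight hw h0).trans (support_card_le w)

theorem eq_zero_of_lt {w : Wd} (hw : w ∈ golayCode) (h : wt' e w + e.card < 8) : w = 0 := by
  by_contra h0
  have := dmin (e := e) hw h0
  omega

/-- disjoint words -/
theorem wt'_add {a b : Wd} (h : ∀ p ∉ e, a p * b p = 0) : wt' e (a + b) = wt' e a + wt' e b := by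
  unfold wt'
  rw [← Finset.card_union_of_disjoint]
  · congr 1
    ext p
    simp only [Finset.mem_union, Finset.mem_filter, Finset.mem_univ, true_and, Pi.add_apply]
    by_cases hp : p ∈ e
    · simp [hp]
    · have h1 := h p hp
      simp only [hp, not_false_eq_true, true_and]
      generalize a p = x at *
      generalize b p = y at *
      revert x y
      decide
  · rw [Finset.disjoint_left]
    intro p hp hp'
    rw [Finset.mem_filter] at hp hp'
    have h1 := h p hp.2.1
    exact mul_ne_zero hp.2.2 hp'.2.2 h1

theorem wt'_congr {a b : Wd} (h : ∀ p ∉ e, a p = b p) : wt' e a = wt' e b := by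
  unfold wt'
  congr 1
  ext p
  simp only [Finset.mem_filter, Finset.mem_univ, true_and]
  constructor
  · rintro ⟨h1, h2⟩; exact ⟨h1, by rwa [← h p h1]⟩
  · rintro ⟨h1, h2⟩; exact ⟨h1, by rwa [h p h1]⟩

theorem wt'_one : wt' e 1 + e.card = 24 := by
  unfold wt'
  have : (Finset.univ.filter fun p => p ∉ e ∧ (1 : Wd) p ≠ 0) = eᶜ := by
    ext p
    simp
  rw [this, Finset.card_compl, card_pt]
  have := Finset.card_le_univ e
  rw [card_pt] at this
  omega

theorem wt'_le_of {a b : Wd} (h : ∀ p ∉ e, a p = 1 → b p = 1) : wt' e a ≤ wt' e b := by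
  refine Finset.card_le_card fun p hp => ?_
  rw [Finset.mem_filter] at hp ⊢
  refine ⟨Finset.mem_univ _, hp.2.1, ?_⟩
  rw [ne_zero_iff]
  exact h p hp.2.1 ((ne_zero_iff _).1 hp.2.2)

/-- a word of `Ge e` is determined outside of `e` -/
theorem eq_of_off (he : Ok e) {a b : Wd} (ha : a ∈ golayCode) (hb : b ∈ golayCode) (h : ∀ p ∉ e, a p = b p) : a = b := by
  have h1 : a + b = 0 := by
    refine eq_zero_of_lt (e := e) (golayCode.add_mem ha hb) ?_
    have : wt' e (a + b) = 0 := by
      unfold wt'
      rw [Finset.card_eq_zero, Finset.filter_eq_empty_iff]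
      rintro p - ⟨hp, hp'⟩
      apply hp'
      rw [Pi.add_apply, h p hp]
      have key : ∀ a : ZMod 2, a + a = 0 := by decide
      exact key _
    rw [this]
    rcases he with h | h <;> omega
  have key : ∀ x y : ZMod 2, x + y = 0 → x = y := by decide
  funext p
  exact key _ _ (congrFun h1 p)

/-- words of small weight are indecomposable -/
theorem ind {c h : Wd} (hc : c ∈ golayCode) (hh : h ∈ golayCode)
    (hw : wt' e c + 2 * e.card < 16) (hs : ∀ p ∉ e, h p = 1 → c p = 1) : h = 0 ∨ h = c := by
  by_contra hcon
  push Not at hcon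
  have h1 : c + h ≠ 0 := by
    intro h0
    apply hcon.2
    funext p
    have := congrFun h0 p
    have key : ∀ x y : ZMod 2, x + y = 0 → y = x := by decide
    exact key _ _ this
  have h2 := dmin (e := e) hh hcon.1
  have h3 := dmin (e := e) (golayCode.add_mem hc hh) h1
  have h4 : wt' e c = wt' e (c + h) + wt' e h := by
    rw [← wt'_add]
    · apply wt'_congr
      intro p _
      rw [Pi.add_apply, Pi.add_apply]
      have key : ∀ x y : ZMod 2, x = x + y + y := by decide
      exact key _ _
    · intro p hp
      have := hs p hp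
      rw [Pi.add_apply]
      generalize c p = x at *
      generalize h p = y at *
      revert x y
      decide
  omega

/-- **Constancy.** -/
theorem const_on {c g : Wd} (hc : c ∈ golayCode)
    (hp : ∃ h ∈ golayCode, (c * g = h ∨ c * g = h + ind1 e)) (hw : wt' e c + 2 * e.card < 16) :
    (∀ p ∉ e, c p = 1 → g p = 0) ∨ (∀ p ∉ e, c p = 1 → g p = 1) := by
  obtain ⟨h, hh, hcg⟩ := hp
  have hoff : ∀ p ∉ e, c p * g p = h p := by
    intro p hp
    rcases hcg with h1 | h1
    · exact congrFun h1 p
    · have := congrFun h1 p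
      rw [Pi.add_apply, ind1, if_neg hp, add_zero] at this
      exact this
  have key : ∀ x y z : ZMod 2, x * y = z → z = 1 → x = 1 := by decide
  rcases ind hc hh hw (fun p hp h1 => key _ _ _ (hoff p hp) h1) with h0 | h0
  · left
    intro p hp h1
    have := hoff p hp
    rw [h1, one_mul, h0] at this
    exact this
  · right
    intro p hp h1
    have := hoff p hp
    rw [h1, one_mul, h0, h1] at this
    exact this

/-- interpolation: prescribed values on at most five points outside of `e`, zero on `e` -/
theorem interp (he : Ok e) (t : Finset GolayPt) (ht : t.card ≤ 5) (hte : Disjoint t e) (f : Wd) :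
    ∃ w ∈ Ge e, ∀ p ∈ t, w p = f p := by
  classical
  obtain ⟨w, hw, h⟩ := Cfsg.Agent.SporadicStructure.GolayInterp.exists_word_interp (t ∪ e) (by
    refine (Finset.card_union_le _ _).trans ?_
    rcases he with h | h <;> omega) (fun p => if p ∈ e then 0 else f p)
  refine ⟨w, ⟨hw, ?_⟩, ?_⟩
  · refine Finset.sum_eq_zero fun p hp => ?_
    rw [h p (Finset.mem_union_right _ hp), if_pos hp]
  · intro p hp
    rw [h p (Finset.mem_union_left _ hp), if_neg (Finset.disjoint_left.1 hte hp)]

end Cfsg.Agent.H332.GolayE
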