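import Cfsg.Agent.H332.GolayE
import Cfsg.Agent.J4Type.DuadM24
import Cfsg.Agent.SporadicA.Co0Mono

/-!
# Elementary abelian 2-subgroups of `M24` acting quadratically on the Golay code modulo the all-one word

`Quad e K` : for `x, y ∈ K` and a word `O ∈ Ge e` the word `(1 + x)(1 + y) O` is constant.  Then `|K| ≤ 4`
(`card_le`) and if `|K| = 4`, then any set of at least six points contains three points any two of which are
separated by `K` (`exists_three`).
-/

set_option autoImplicit false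

open Cfsg

namespace Cfsg.Agent.H332.GolayK

open Cfsg.Agent.H332.GolayE
open Cfsg.Agent.SporadicStructure.LeechBase (zmod2_cases)

/-- the action on words -/
def mv (σ : M24) (w : Wd) : Wd := fun p => w ((σ : Equiv.Perm GolayPt) p)

theorem mv_apply (σ : M24) (w : Wd) (p : GolayPt) : mv σ w p = w ((σ : Equiv.Perm GolayPt) p) := rfl

theorem mv_mem (σ : M24) {w : Wd} (hw : w ∈ golayCode) : mv σ w ∈ golayCode :=
  (Cfsg.Agent.SporadicA.Co0Mono.wordPerm σ⁻¹ ⟨w, hw⟩).2

/-- `K` is elementary abelian (every element has square one) and preserves `e` -/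
structure Good (e : Finset GolayPt) (K : Subgroup M24) : Prop where
  ok : Ok e
  sq : ∀ σ ∈ K, σ * σ = 1
  inv : ∀ σ ∈ K, ∀ p, (σ : Equiv.Perm GolayPt) p ∈ e ↔ p ∈ e

/-- the norm of a word -/
def Nm (x y : M24) (O : Wd) (q : GolayPt) : ZMod 2 :=
  O q + O ((x : Equiv.Perm GolayPt) q) + O ((y : Equiv.Perm GolayPt) q) +
    O ((x : Equiv.Perm GolayPt) ((y : Equiv.Perm GolayPt) q))

/-- `K` is quadratic -/
def Quad (e : Finset GolayPt) (K : Subgroup M24) : Prop :=
  ∀ x ∈ K, ∀ y ∈ K, ∀ O ∈ Ge e, (∀ q, Nm x y O q = 0) ∨ (∀ q, Nm x y O q = 1)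

variable {e : Finset GolayPt} {K : Subgroup M24}

/-- an element of `M24` acting -/
local notation "⟪" x "⟫" => ((x : M24) : Equiv.Perm GolayPt)

theorem mul_app (x y : M24) (p : GolayPt) : ⟪x * y⟫ p = ⟪x⟫ (⟪y⟫ p) := rfl

theorem one_app (p : GolayPt) : ⟪1⟫ p = p := rfl

theorem comm (h : Good e K) {x y : M24} (hx : x ∈ K) (hy : y ∈ K) : x * y = y * x := by
  have h1 := h.sq _ (K.mul_mem hx hy)
  have h2 := h.sq x hx
  have h3 := h.sq y hy
  have hxi : x⁻¹ = x := inv_eq_of_mul_eq_one_left h2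
  have hyi : y⁻¹ = y := inv_eq_of_mul_eq_one_left h3
  calc x * y = (x * y)⁻¹ := (inv_eq_of_mul_eq_one_left h1).symm
    _ = y * x := by rw [mul_inv_rev, hxi, hyi]

theorem sq_app (h : Good e K) {x : M24} (hx : x ∈ K) (p : GolayPt) : ⟪x⟫ (⟪x⟫ p) = p := by
  rw [← mul_app, h.sq x hx, one_app]

theorem comm_app (h : Good e K) {x y : M24} (hx : x ∈ K) (hy : y ∈ K) (p : GolayPt) :
    ⟪x⟫ (⟪y⟫ p) = ⟪y⟫ (⟪x⟫ p) := by
  rw [← mul_app, ← mul_app, comm h hx hy]

/-- regular point of a pair -/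
def Reg (x y : M24) (p : GolayPt) : Prop := ⟪x⟫ p ≠ p ∧ ⟪y⟫ p ≠ p ∧ ⟪x⟫ (⟪y⟫ p) ≠ p

theorem reg_ne (h : Good e K) {x y : M24} (hx : x ∈ K) {p : GolayPt} (hr : Reg x y p) :
    ⟪x⟫ p ≠ ⟪y⟫ p := by
  intro h1
  apply hr.2.2
  rw [← h1, sq_app h hx]

theorem eq_of_ne {a : ZMod 2} (h : a ≠ 1) : a = 0 := by revert a; decide

/-- the four points of a regular orbit -/
theorem reg_not_mem (h : Good e K) {x y : M24} (hx : x ∈ K) (hy : y ∈ K) {p : GolayPt} (hr : Reg x y p) : p ∉ e := by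
  intro hp
  have hx' := (h.inv x hx p).2 hp
  have hy' := (h.inv y hy p).2 hp
  have hle : ({p, ⟪x⟫ p, ⟪y⟫ p} : Finset GolayPt) ⊆ e := by
    intro q hq
    simp only [Finset.mem_insert, Finset.mem_singleton] at hq
    rcases hq with rfl | rfl | rfl
    · exact hp
    · exact hx'
    · exact hy'
  have h3 : ({p, ⟪x⟫ p, ⟪y⟫ p} : Finset GolayPt).card = 3 :=
    Finset.card_eq_three.2 ⟨p, ⟪x⟫ p, ⟪y⟫ p, hr.1.symm, hr.2.1.symm, reg_ne h hx hr, rfl⟩
  have := Finset.card_le_card hle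
  rcases h.ok with h4 | h4 <;> omega

/-- **Dichotomy**: if one orbit of `⟨x, y⟩` is regular, then all are. -/
theorem reg_all (h : Good e K) (hQ : Quad e K) {x y : M24} (hx : x ∈ K) (hy : y ∈ K) {p : GolayPt}
    (hr : Reg x y p) (q : GolayPt) : Reg x y q := by
  classical
  have hpe := reg_not_mem h hx hy hr
  have d1 : ⟪x⟫ p ≠ ⟪x⟫ (⟪y⟫ p) := fun h1 => hr.2.1 ((⟪x⟫.injective h1).symm)
  have d2 : ⟪y⟫ p ≠ ⟪x⟫ (⟪y⟫ p) := by
    rw [comm_app h hx hy]
    exact fun h1 => hr.1 ((⟪y⟫.injective h1).symm)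
  obtain ⟨O, hO, hv⟩ := interp h.ok ({p, ⟪x⟫ p, ⟪y⟫ p, ⟪x⟫ (⟪y⟫ p)} : Finset GolayPt)
    ((Finset.card_le_four).trans (by norm_num)) (by
      rw [Finset.disjoint_left]
      intro r hr1 hr2
      simp only [Finset.mem_insert, Finset.mem_singleton] at hr1
      apply hpe
      rcases hr1 with rfl | rfl | rfl | rfl
      · exact hr2
      · exact (h.inv x hx p).1 hr2
      · exact (h.inv y hy p).1 hr2
      · exact (h.inv y hy p).1 ((h.inv x hx _).1 hr2))
    (fun r => if r = p then 1 else 0)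
  have hN : Nm x y O p = 1 := by
    rw [Nm, hv p (by simp), hv (⟪x⟫ p) (by simp), hv (⟪y⟫ p) (by simp), hv (⟪x⟫ (⟪y⟫ p)) (by simp),
      if_pos rfl, if_neg hr.1, if_neg hr.2.1, if_neg hr.2.2, add_zero, add_zero, add_zero]
  have hall : ∀ q, Nm x y O q = 1 := by
    rcases hQ x hx y hy O hO with h0 | h1
    · rw [h0 p] at hN
      exact absurd hN (by decide)
    · exact h1
  have key : ∀ a b : ZMod 2, a + a + b + b ≠ 1 := by decide
  have key2 : ∀ a b : ZMod 2, a + b + a + b ≠ 1 := by decide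
  have key3 : ∀ a b : ZMod 2, a + b + b + a ≠ 1 := by decide
  have hq := hall q
  rw [Nm] at hq
  refine ⟨fun h1 => ?_, fun h1 => ?_, fun h1 => ?_⟩
  · rw [comm_app h hx hy, h1] at hq
    exact key _ _ hq
  · rw [h1] at hq
    exact key2 _ _ hq
  · have h2 : ⟪y⟫ q = ⟪x⟫ q := by
      rw [← sq_app h hx (⟪y⟫ q), h1]
    rw [h1, h2] at hq
    exact key3 _ _ hq

/-! ### no regular orbits -/

theorem fix_le {σ : M24} (h2 : σ * σ = 1) (h1 : σ ≠ 1) :
    (Finset.univ.filter fun p : GolayPt => ⟪σ⟫ p = p).card ≤ 8 :=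
  Cfsg.Agent.J4Type.DuadM24.card_fix_le σ.2 (congrArg Subtype.val h2) (fun h => h1 (Subtype.ext h))

open Classical in
/-- Counting. -/
theorem count_T (h : Good e K) (hT : ∀ x ∈ K, ∀ y ∈ K, ∀ p, ¬ Reg x y p) :
    Nat.card K ≤ 4 ∧ (Nat.card K = 4 → ∀ p, ∃ x ∈ K, ⟪x⟫ p ≠ p) := by
  have : Finite M24 := inferInstance
  have : Fintype K := Fintype.ofFinite K
  rw [Nat.card_eq_fintype_card]
  set n := Fintype.card K with hn
  -- stabilisers
  let S : GolayPt → Finset K := fun p => Finset.univ.filter fun σ : K => ⟪σ⟫ p = p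
  have hS : ∀ p, n ≤ 2 * (S p).card := by
    intro p
    by_cases hp : ∃ τ : K, ⟪τ⟫ p ≠ p
    · obtain ⟨τ, hτ⟩ := hp
      have h1 : ((S p)ᶜ).card ≤ (S p).card := by
        refine Finset.card_le_card_of_injOn (fun σ => τ * σ) ?_ ?_
        · intro σ hσ
          rw [Finset.mem_coe, Finset.mem_compl, Finset.mem_filter] at hσ
          rw [Finset.mem_coe, Finset.mem_filter]
          refine ⟨Finset.mem_univ _, ?_⟩
          by_contra h2
          exact hT τ τ.2 σ σ.2 p ⟨hτ, fun h3 => hσ ⟨Finset.mem_univ _, h3⟩, h2⟩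
        · intro a _ b _ hab
          exact mul_left_cancel hab
      have h2 := Finset.card_compl_add_card (S p)
      omega
    · push Not at hp
      have : S p = Finset.univ := Finset.filter_true_of_mem fun σ _ => hp σ
      rw [this, Finset.card_univ]
      omega
  have hdc : ∑ p : GolayPt, (S p).card = ∑ σ : K, (Finset.univ.filter fun p : GolayPt => ⟪σ⟫ p = p).card := by
    simp only [S, Finset.card_filter]
    exact Finset.sum_comm
  have hF : ∑ σ : K, (Finset.univ.filter fun p : GolayPt => ⟪σ⟫ p = p).card ≤ 24 + 8 * (n - 1) := by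
    rw [← Finset.add_sum_erase _ _ (Finset.mem_univ (1 : K))]
    refine add_le_add ?_ ?_
    · refine (Finset.card_le_univ _).trans ?_
      rw [card_pt]
    · refine (Finset.sum_le_card_nsmul _ _ 8 fun σ hσ => ?_).trans ?_
      · refine fix_le (h.sq σ σ.2) fun h1 => ?_
        exact (Finset.mem_erase.1 hσ).1 (Subtype.ext h1)
      · rw [Finset.card_erase_of_mem (Finset.mem_univ _), Finset.card_univ, smul_eq_mul, mul_comm]
  have hn1 : 1 ≤ n := Fintype.card_pos
  have hlow : 24 * n ≤ 2 * ∑ p : GolayPt, (S p).card := by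
    rw [Finset.mul_sum]
    have := Finset.card_nsmul_le_sum (Finset.univ : Finset GolayPt) (fun p => 2 * (S p).card) n
      fun p _ => hS p
    rwa [Finset.card_univ, card_pt, smul_eq_mul] at this
  refine ⟨by omega, fun h4 p => ?_⟩
  by_contra hno
  push Not at hno
  have hp : (S p).card = 4 := by
    have : S p = Finset.univ := Finset.filter_true_of_mem fun σ _ => hno σ σ.2
    rw [this, Finset.card_univ, ← hn, h4]
  have h5 : 23 * 2 ≤ ∑ q ∈ Finset.univ.erase p, (S q).card := by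
    have := Finset.card_nsmul_le_sum (Finset.univ.erase p) (fun q => (S q).card) 2
      fun q _ => by
        have := hS q
        omega
    rwa [Finset.card_erase_of_mem (Finset.mem_univ _), Finset.card_univ, card_pt, smul_eq_mul] at this
  have h6 := Finset.add_sum_erase (Finset.univ : Finset GolayPt) (fun q => (S q).card) (Finset.mem_univ p)
  rw [hdc] at h6
  omega

/-! ### regular orbits -/

/-- in the presence of a regular pair all elements are without fixed points -/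
theorem free_of_reg (h : Good e K) (hQ : Quad e K) {x y : M24} (hx : x ∈ K) (hy : y ∈ K) {p : GolayPt}
    (hr : Reg x y p) {s : M24} (hs : s ∈ K) (h1 : s ≠ 1) (q : GolayPt) : ⟪s⟫ q ≠ q := by
  intro hq
  apply h1
  have hall := reg_all h hQ hx hy hr
  -- the pairs containing `s` have no regular points
  have hno : ∀ a ∈ K, ∀ r, ¬ Reg s a r := by
    intro a ha r hr'
    exact (reg_all h hQ hs ha hr' q).1 hq
  apply Subtype.ext
  apply Equiv.ext
  intro r
  by_contra hr1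
  change ⟪s⟫ r ≠ r at hr1
  have e1 : ⟪s⟫ (⟪x⟫ r) = r := by
    by_contra h2
    exact hno x hx r ⟨hr1, (hall r).1, h2⟩
  have e2 : ⟪s⟫ (⟪y⟫ r) = r := by
    by_contra h2
    exact hno y hy r ⟨hr1, (hall r).2.1, h2⟩
  exact reg_ne h hx (hall r) (⟪s⟫.injective (e1.trans e2.symm))

theorem e_empty (h : Good e K) (hQ : Quad e K) {x y : M24} (hx : x ∈ K) (hy : y ∈ K) {p : GolayPt}
    (hr : Reg x y p) : e = ∅ := by
  rw [Finset.eq_empty_iff_forall_notMem]
  intro q
  exact reg_not_mem h hx hy (reg_all h hQ hx hy hr q)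

theorem mem_Ge_empty {w : Wd} : w ∈ Ge ∅ ↔ w ∈ golayCode := by
  rw [mem_Ge]
  simp

/-- the indicator of an orbit -/
def orb (x y : M24) (a : GolayPt) : Wd := fun q =>
  if q = a ∨ q = ⟪x⟫ a ∨ q = ⟪y⟫ a ∨ q = ⟪x⟫ (⟪y⟫ a) then 1 else 0

open Classical in
theorem sum_orb (h : Good e K) {x y : M24} (hx : x ∈ K) (hy : y ∈ K) {a : GolayPt} (hr : Reg x y a) (O : Wd) :
    ∑ q, orb x y a q * O q = Nm x y O a := by
  have d1 : ⟪x⟫ a ≠ ⟪x⟫ (⟪y⟫ a) := fun h1 => hr.2.1 ((⟪x⟫.injective h1).symm)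
  have d2 : ⟪y⟫ a ≠ ⟪x⟫ (⟪y⟫ a) := by
    rw [comm_app h hx hy]
    exact fun h1 => hr.1 ((⟪y⟫.injective h1).symm)
  have d3 := reg_ne h hx hr
  have h1 : ∑ q, orb x y a q * O q = ∑ q ∈ ({a, ⟪x⟫ a, ⟪y⟫ a, ⟪x⟫ (⟪y⟫ a)} : Finset GolayPt), O q := by
    rw [← Finset.sum_subset (Finset.subset_univ ({a, ⟪x⟫ a, ⟪y⟫ a, ⟪x⟫ (⟪y⟫ a)} : Finset GolayPt))]
    · refine Finset.sum_congr rfl fun q hq => ?_
      simp only [Finset.mem_insert, Finset.mem_singleton] at hq
      rw [orb, if_pos hq, one_mul]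
    · intro q _ hq
      simp only [Finset.mem_insert, Finset.mem_singleton] at hq
      rw [orb, if_neg hq, zero_mul]
  rw [h1, Finset.sum_insert, Finset.sum_insert, Finset.sum_pair d2, Nm]
  · ring
  · simp only [Finset.mem_insert, Finset.mem_singleton, not_or]
    exact ⟨d3, d1⟩
  · simp only [Finset.mem_insert, Finset.mem_singleton, not_or]
    exact ⟨hr.1.symm, hr.2.1.symm, hr.2.2.symm⟩

/-- two orbits of a regular pair form a word -/
theorem orb_add_mem (h : Good e K) (hQ : Quad e K) {x y : M24} (hx : x ∈ K) (hy : y ∈ K) {p : GolayPt}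
    (hr : Reg x y p) (a b : GolayPt) : orb x y a + orb x y b ∈ golayCode := by
  have hall := reg_all h hQ hx hy hr
  apply Cfsg.Agent.SporadicStructure.GolayInterp.mem_golayCode_of_orthogonal
  intro O hO
  have he := e_empty h hQ hx hy hr
  subst he
  have h1 : ∀ q, (orb x y a + orb x y b) q * O q = orb x y a q * O q + orb x y b q * O q := fun q => by
    rw [Pi.add_apply, add_mul]
  rw [Finset.sum_congr rfl fun q _ => h1 q, Finset.sum_add_distrib, sum_orb h hx hy (hall a),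
    sum_orb h hx hy (hall b)]
  rcases hQ x hx y hy O (mem_Ge_empty.2 hO) with h2 | h2
  · rw [h2, h2, add_zero]
  · rw [h2, h2]; decide

open Classical in
theorem card_R (h : Good e K) (hQ : Quad e K) {x y : M24} (hx : x ∈ K) (hy : y ∈ K) {p : GolayPt}
    (hr : Reg x y p) {w : M24} (hw : w ∈ K) : w = 1 ∨ w = x ∨ w = y ∨ w = x * y := by
  by_contra hcon
  push Not at hcon
  obtain ⟨w1, wx, wy, wxy⟩ := hcon
  have hall := reg_all h hQ hx hy hr
  have he := e_empty h hQ hx hy hr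
  subst he
  have free : ∀ s ∈ K, s ≠ 1 → ∀ q, ⟪s⟫ q ≠ q := fun s hs h1 q => free_of_reg h hQ hx hy hr hs h1 q
  have hne : ∀ a ∈ K, ∀ b ∈ K, a ≠ b → ∀ q, ⟪a⟫ q ≠ ⟪b⟫ q := by
    intro a ha b hb hab q h1
    refine free (a * b) (K.mul_mem ha hb) (fun h2 => hab ?_) q ?_
    · rw [← inv_eq_of_mul_eq_one_left h2, inv_eq_of_mul_eq_one_left (h.sq b hb)]
    · rw [mul_app, ← h1, sq_app h ha]
  have hx1 : x ≠ 1 := fun h1 => hr.1 (by rw [h1]; rfl)
  have hy1 : y ≠ 1 := fun h1 => hr.2.1 (by rw [h1]; rfl)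
  have hxy1 : x * y ≠ 1 := fun h1 => hr.2.2 (by rw [← mul_app, h1]; rfl)
  have hxy : x ≠ y := fun h1 => reg_ne h hx hr (by rw [h1])
  have hxyK := K.mul_mem hx hy
  have hwK := K.mul_mem hy hw
  -- the six points
  have i1 : ∀ q, ⟪x⟫ q ≠ q := free x hx hx1
  have i2 : ∀ q, ⟪y⟫ q ≠ q := free y hy hy1
  have i3 : ∀ q, ⟪x⟫ (⟪y⟫ q) ≠ q := free _ hxyK hxy1
  have i4 : ∀ q, ⟪w⟫ q ≠ q := free w hw w1
  have i5 : ∀ q, ⟪y⟫ (⟪w⟫ q) ≠ q := free _ hwK (fun h1 => wy (by
    rw [← inv_eq_of_mul_eq_one_right h1, inv_eq_of_mul_eq_one_left (h.sq y hy)]))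
  have i6 : ∀ q, ⟪w⟫ q ≠ ⟪x⟫ q := hne w hw x hx wx
  have i7 : ∀ q, ⟪y⟫ (⟪w⟫ q) ≠ ⟪x⟫ q := hne _ hwK x hx (fun h1 => wxy (by
    rw [← h1, comm h hwK hy, ← mul_assoc, h.sq y hy, one_mul]))
  obtain ⟨O, hO, hv⟩ := Cfsg.Agent.SporadicStructure.GolayInterp.exists_word_interp
    ({p, ⟪x⟫ p, ⟪y⟫ p, ⟪x⟫ (⟪y⟫ p), ⟪w⟫ p, ⟪y⟫ (⟪w⟫ p)} : Finset GolayPt)
    ((Finset.card_le_six).trans (by norm_num)) (fun r => if r = p ∨ r = ⟪x⟫ p then 1 else 0)
  have v1 : O p = 1 := by rw [hv p (by simp), if_pos (Or.inl rfl)]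
  have v2 : O (⟪x⟫ p) = 1 := by rw [hv _ (by simp), if_pos (Or.inr rfl)]
  have v3 : O (⟪y⟫ p) = 0 := by
    rw [hv _ (by simp), if_neg]
    rintro (h1 | h1)
    · exact i2 p h1
    · exact reg_ne h hx hr h1.symm
  have v4 : O (⟪x⟫ (⟪y⟫ p)) = 0 := by
    rw [hv _ (by simp), if_neg]
    rintro (h1 | h1)
    · exact i3 p h1
    · exact i2 p (⟪x⟫.injective h1)
  have v5 : O (⟪w⟫ p) = 0 := by
    rw [hv _ (by simp), if_neg]
    rintro (h1 | h1)
    · exact i4 p h1
    · exact i6 p h1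
  have v6 : O (⟪y⟫ (⟪w⟫ p)) = 0 := by
    rw [hv _ (by simp), if_neg]
    rintro (h1 | h1)
    · exact i5 p h1
    · exact i7 p h1
  have hOe := mem_Ge_empty.2 hO
  have N0 : ∀ q, Nm x y O q = 0 := by
    rcases hQ x hx y hy O hOe with h1 | h1
    · exact h1
    · have := h1 p
      rw [Nm, v1, v2, v3, v4] at this
      exact absurd this (by decide)
  have N1 : ∀ q, Nm y w O q = 1 := by
    rcases hQ y hy w hw O hOe with h1 | h1
    · have := h1 p
      rw [Nm, v1, v3, v5, v6] at this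
      exact absurd this (by decide)
    · exact h1
  set D : Wd := O + mv y O with hD
  have hDm : D ∈ golayCode := golayCode.add_mem hO (mv_mem y hO)
  have Dq : ∀ q, D q = O q + O (⟪y⟫ q) := fun q => rfl
  have Dx : ∀ q, D (⟪x⟫ q) = D q := by
    intro q
    have := N0 q
    rw [Nm] at this
    rw [Dq, Dq, ← comm_app h hx hy]
    have key : ∀ a b c d : ZMod 2, a + b + c + d = 0 → b + d = a + c := by decide
    exact key _ _ _ _ this
  have Dy : ∀ q, D (⟪y⟫ q) = D q := by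
    intro q
    rw [Dq, Dq, sq_app h hy, add_comm]
  have Dw : ∀ q, D (⟪w⟫ q) = D q + 1 := by
    intro q
    have := N1 q
    rw [Nm] at this
    rw [Dq, Dq]
    have key : ∀ a b c d : ZMod 2, a + b + c + d = 1 → c + d = a + b + 1 := by decide
    exact key _ _ _ _ this
  -- the weight of `D`
  have hwt : (support₂ D).card = 12 := by
    have h1 : (support₂ D).card = ((support₂ D)ᶜ).card := by
      refine Finset.card_bij (fun q _ => ⟪w⟫ q) ?_ ?_ ?_
      · intro q hq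
        rw [support₂, Finset.mem_filter] at hq
        rw [Finset.mem_compl, support₂, Finset.mem_filter, Dw]
        rintro ⟨-, h2⟩
        have key : ∀ a : ZMod 2, a ≠ 0 → a + 1 ≠ 0 → False := by decide
        exact key _ hq.2 h2
      · intro a _ b _ hab
        exact ⟪w⟫.injective hab
      · intro q hq
        refine ⟨⟪w⟫ q, ?_, sq_app h hw q⟩
        rw [Finset.mem_compl, support₂, Finset.mem_filter] at hq
        rw [support₂, Finset.mem_filter, Dw]
        refine ⟨Finset.mem_univ _, fun h2 => hq ⟨Finset.mem_univ _, fun h3 => ?_⟩⟩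
        rw [h3] at h2
        exact absurd h2 (by decide)
    have h2 := Finset.card_compl_add_card (support₂ D)
    rw [card_pt] at h2
    omega
  -- an orbit in the support
  have hex : ∃ a, D a ≠ 0 := by
    by_contra hno
    push Not at hno
    have : support₂ D = ∅ := by
      ext q
      simp [support₂, hno q]
    rw [this] at hwt
    simp at hwt
  obtain ⟨a, ha⟩ := hex
  have hFa : (support₂ D \ {a, ⟪x⟫ a, ⟪y⟫ a, ⟪x⟫ (⟪y⟫ a)}).Nonempty := by
    rw [← Finset.card_pos]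
    have := Finset.le_card_sdiff ({a, ⟪x⟫ a, ⟪y⟫ a, ⟪x⟫ (⟪y⟫ a)} : Finset GolayPt) (support₂ D)
    have h4 := Finset.card_le_four (a := a) (b := ⟪x⟫ a) (c := ⟪y⟫ a) (d := ⟪x⟫ (⟪y⟫ a))
    omega
  obtain ⟨b, hb⟩ := hFa
  rw [Finset.mem_sdiff, support₂, Finset.mem_filter] at hb
  obtain ⟨⟨-, hDb⟩, hba⟩ := hb
  simp only [Finset.mem_insert, Finset.mem_singleton, not_or] at hba
  set D' : Wd := D + (orb x y a + orb x y b) with hD'
  have hD'm : D' ∈ golayCode := golayCode.add_mem hDm (orb_add_mem h hQ hx hy hr a b)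
  -- the support of `orb a + orb b`
  have hin : ∀ c, D c ≠ 0 → ∀ q, orb x y c q = 1 → D q = 1 := by
    intro c hc q hq
    rw [orb] at hq
    split_ifs at hq with h1
    · rw [← ne_zero_iff]
      rcases h1 with rfl | rfl | rfl | rfl
      · exact hc
      · rwa [Dx]
      · rwa [Dy]
      · rwa [Dx, Dy]
    · exact absurd hq (by decide)
  have hcard : ∀ c, (support₂ (orb x y c)).card ≤ 4 := by
    intro c
    have : support₂ (orb x y c) = {c, ⟪x⟫ c, ⟪y⟫ c, ⟪x⟫ (⟪y⟫ c)} := by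
      ext q
      simp only [support₂, Finset.mem_filter, Finset.mem_univ, true_and, orb, Finset.mem_insert,
        Finset.mem_singleton, ne_eq, ite_eq_right_iff, one_ne_zero, imp_false, not_not]
    rw [this]
    exact Finset.card_le_four
  set M : Wd := orb x y a + orb x y b with hM
  have hMm : M ∈ golayCode := orb_add_mem h hQ hx hy hr a b
  have hMb : M b = 1 := by
    rw [hM, Pi.add_apply, orb, orb, if_neg, if_pos (Or.inl rfl), zero_add]
    rintro (h1 | h1 | h1 | h1)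
    · exact hba.1 h1
    · exact hba.2.1 h1
    · exact hba.2.2.1 h1
    · exact hba.2.2.2 h1
  have hM0 : M ≠ 0 := fun h1 => by
    have h2 := congrFun h1 b
    rw [hMb] at h2
    exact one_ne_zero h2
  have hM8 := Cfsg.Agent.SporadicA.GolayWeight.eight_le_weight hMm hM0
  have hMle : (support₂ M).card ≤ 8 := by
    rw [hM, Cfsg.Agent.SporadicStructure.GolayEven.support₂_add]
    have h1 := Cfsg.Agent.SporadicStructure.GolayEven.card_symmDiff (support₂ (orb x y a)) (support₂ (orb x y b))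
    have h2 := hcard a
    have h3 := hcard b
    omega
  have hMD : support₂ M ⊆ support₂ D := by
    intro q hq
    rw [support₂, Finset.mem_filter] at hq ⊢
    refine ⟨Finset.mem_univ _, ?_⟩
    rcases zmod2_cases (orb x y a q) with h1 | h1
    · rcases zmod2_cases (orb x y b q) with h2 | h2
      · exfalso
        apply hq.2
        rw [hM, Pi.add_apply, h1, h2, add_zero]
      · rw [hin b hDb q h2]; decide
    · rw [hin a ha q h1]; decide
  have h5 := Cfsg.Agent.SporadicStructure.GolayEven.card_symmDiff (support₂ D) (support₂ M)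
  rw [← Cfsg.Agent.SporadicStructure.GolayEven.support₂_add, Finset.inter_eq_right.2 hMD] at h5
  have h6 : D + M = 0 := by
    by_contra h0
    have := Cfsg.Agent.SporadicA.GolayWeight.eight_le_weight (golayCode.add_mem hDm hMm) h0
    omega
  rw [h6] at h5
  have h7 : support₂ (0 : Wd) = ∅ := by
    ext q
    simp [support₂]
  rw [h7, Finset.card_empty] at h5
  omega

/-! ### conclusions -/

/-- `K` separates `p` from `q` -/
def Sep (K : Subgroup M24) (p q : GolayPt) : Prop := p ≠ q ∧ ∃ s ∈ K, ⟪s⟫ p ≠ p ∧ ⟪s⟫ p ≠ q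

theorem card_le (h : Good e K) (hQ : Quad e K) : Nat.card K ≤ 4 := by
  classical
  by_cases hT : ∀ x ∈ K, ∀ y ∈ K, ∀ p, ¬ Reg x y p
  · exact (count_T h hT).1
  · push Not at hT
    obtain ⟨x, hx, y, hy, p, hr⟩ := hT
    have h1 : (K : Set M24) ⊆ (({1, x, y, x * y} : Finset M24) : Set M24) := by
      intro w hw
      rw [Finset.mem_coe, Finset.mem_insert, Finset.mem_insert, Finset.mem_insert, Finset.mem_singleton]
      exact card_R h hQ hx hy hr hw
    have h2 := Set.ncard_le_ncard h1 (Finset.finite_toSet _)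
    rw [Set.ncard_coe_finset] at h2
    exact h2.trans Finset.card_le_four

open Classical in
/-- **Three separated points.** -/
theorem exists_three (h : Good e K) (hQ : Quad e K) (h4 : Nat.card K = 4) {F : Finset GolayPt} (hF : 6 ≤ F.card) :
    ∃ a ∈ F, ∃ b ∈ F, ∃ c ∈ F, Sep K a b ∧ Sep K b a ∧ Sep K a c ∧ Sep K c a ∧ Sep K b c ∧ Sep K c b := by
  by_cases hT : ∀ x ∈ K, ∀ y ∈ K, ∀ p, ¬ Reg x y p
  · have hmv := (count_T h hT).2 h4
    choose m hm hmp using hmv
    -- the other point of the orbit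
    have huniq : ∀ p, ∀ s ∈ K, ⟪s⟫ p ≠ p → ⟪s⟫ p = ⟪m p⟫ p := by
      intro p s hs hsp
      have h1 : ⟪m p⟫ (⟪s⟫ p) = p := by
        by_contra h2
        exact hT (m p) (hm p) s hs p ⟨hmp p, hsp, h2⟩
      rw [← sq_app h (hm p) (⟪s⟫ p), h1]
    have hsep : ∀ p q, p ≠ q → q ≠ ⟪m p⟫ p → Sep K p q := fun p q hpq hq => ⟨hpq, m p, hm p, hmp p, hq.symm⟩
    have hback : ∀ p q, q ≠ ⟪m p⟫ p → q ≠ p → p ≠ ⟪m q⟫ q := by
      intro p q hq hqp h1
      have h2 : ⟪m q⟫ p = q := by rw [h1, sq_app h (hm q)]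
      have h3 : ⟪m q⟫ p ≠ p := by rw [h2]; exact hqp
      exact hq (h2.symm.trans (huniq p _ (hm q) h3))
    obtain ⟨a, ha⟩ : F.Nonempty := by rw [← Finset.card_pos]; omega
    obtain ⟨b, hb⟩ : (F \ {a, ⟪m a⟫ a}).Nonempty := by
      rw [← Finset.card_pos]
      have h1 := Finset.le_card_sdiff ({a, ⟪m a⟫ a} : Finset GolayPt) F
      have h2 := Finset.card_le_two (a := a) (b := ⟪m a⟫ a)
      omega
    obtain ⟨c, hc⟩ : (F \ {a, ⟪m a⟫ a, b, ⟪m b⟫ b}).Nonempty := by
      rw [← Finset.card_pos]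
      have h1 := Finset.le_card_sdiff ({a, ⟪m a⟫ a, b, ⟪m b⟫ b} : Finset GolayPt) F
      have h2 := Finset.card_le_four (a := a) (b := ⟪m a⟫ a) (c := b) (d := ⟪m b⟫ b)
      omega
    simp only [Finset.mem_sdiff, Finset.mem_insert, Finset.mem_singleton, not_or] at hb hc
    have ab : a ≠ b := fun h1 => hb.2.1 h1.symm
    have ac : a ≠ c := fun h1 => hc.2.1 h1.symm
    have bc : b ≠ c := fun h1 => hc.2.2.2.1 h1.symm
    exact ⟨a, ha, b, hb.1, c, hc.1, hsep _ _ ab hb.2.2, hsep _ _ ab.symm (hback _ _ hb.2.2 hb.2.1),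
      hsep _ _ ac hc.2.2.1, hsep _ _ ac.symm (hback _ _ hc.2.2.1 hc.2.1), hsep _ _ bc hc.2.2.2.2,
      hsep _ _ bc.symm (hback _ _ hc.2.2.2.2 hc.2.2.2.1)⟩
  · push Not at hT
    obtain ⟨x, hx, y, hy, p, hr⟩ := hT
    have hall := reg_all h hQ hx hy hr
    have hsep : ∀ a b, a ≠ b → Sep K a b := by
      intro a b hab
      by_cases h1 : ⟪x⟫ a = b
      · exact ⟨hab, y, hy, (hall a).2.1, fun h2 => reg_ne h hx (hall a) (h1.trans h2.symm)⟩
      · exact ⟨hab, x, hx, (hall a).1, h1⟩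
    obtain ⟨t, ht, ht3⟩ := Finset.exists_subset_card_eq (show 3 ≤ F.card by omega)
    obtain ⟨a, b, c, hab, hac, hbc, rfl⟩ := Finset.card_eq_three.1 ht3
    exact ⟨a, ht (by simp), b, ht (by simp), c, ht (by simp), hsep _ _ hab, hsep _ _ hab.symm, hsep _ _ hac,
      hsep _ _ hac.symm, hsep _ _ hbc, hsep _ _ hbc.symm⟩

end Cfsg.Agent.H332.GolayK
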