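import Mathlib
import Cfsg.Prelude.Def_CaseTheorems
import Cfsg.Agent.Lib.HallHigman
import Cfsg.Agent.Transfer.QuatSylow

/-!
# Solvable groups with generalized quaternion Sylow 2-subgroups

A solvable group with generalized quaternion Sylow 2-subgroups and trivial odd core is a 2-group or
has order dividing 48.
-/

set_option autoImplicit false

namespace Cfsg.Agent.H332.QuatSolv

open Subgroup Cfsg.Agent.Transfer.SL23Section Cfsg.Agent.Transfer.QuatSylow

/-- A solvable group with generalized quaternion Sylow 2-subgroups, trivial odd core and a unique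
involution is a 2-group or has order dividing 48. -/
theorem card_dvd {K : Type*} [Group K] [Finite K] [Group.IsSolvable K]
    (hO : Cfsg.oddCore K = ⊥) (z : K) (hz2 : orderOf z = 2) (hu : ∀ x : K, orderOf x = 2 → x = z)
    [(Subgroup.zpowers z).Normal] (Q : Sylow 2 K) (m : ℕ)
    (e : (Q : Subgroup K) ≃* QuaternionGroup (2 ^ m)) (hnot : ¬ IsPGroup 2 K) :
    Nat.card K ∣ 48 := by
  classical
  have hp2 : Fact (Nat.Prime 2) := ⟨Nat.prime_two⟩
  set T : Subgroup K := Cfsg.pCore 2 K with hT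
  have hTn : T.Normal := Cfsg.Agent.Lib.HallHigman.pCore_normal 2
  have hTp : IsPGroup 2 T := Cfsg.Agent.Lib.HallHigman.pCore_isPGroup 2
  have hTQ : T ≤ Q := Cfsg.Agent.Lib.HallHigman.pCore_le_sylow 2 Q
  have hCT : Subgroup.centralizer (T : Set K) ≤ T :=
    Cfsg.Agent.Lib.HallHigman.centralizer_pCore_le_of_solvable 2 hO
  obtain ⟨c, z0, hq⟩ := exists_isQuat (Q : Subgroup K) m ⟨e⟩
  have hz0 : z0 = z := hu z0 (orderOf_eq_prime hq.z_sq hq.z_ne)
  subst hz0
  have hzc : ∀ x : K, x * z0 * x⁻¹ = z0 := by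
    intro x
    apply hu
    rw [← hz2]
    exact (MulAut.conj x).orderOf_eq z0
  have hzz : z0 * z0 = 1 := by rw [← pow_two]; exact hq.z_sq
  -- an element of odd order not centralizing `T`
  obtain ⟨g, hg, hgT⟩ : ∃ g : K, Odd (orderOf g) ∧ g ∉ Subgroup.centralizer (T : Set K) := by
    by_contra hcon
    push Not at hcon
    have h2 : IsPGroup 2 K := by
      rw [IsPGroup.iff_card]
      have hall : ∀ q : ℕ, q.Prime → q ∣ Nat.card K → q = 2 := by
        intro q hq1 hq2
        by_contra hne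
        have : Fact q.Prime := ⟨hq1⟩
        obtain ⟨g, hg⟩ := exists_prime_orderOf_dvd_card' (G := K) q hq2
        have hodd : Odd (orderOf g) := by rw [hg]; exact hq1.odd_of_ne_two hne
        have h3 := hCT (hcon g hodd)
        obtain ⟨k, hk⟩ := hTp ⟨g, h3⟩
        have h4 : g ^ (2 ^ k) = 1 := congrArg Subtype.val hk
        have h5 := orderOf_dvd_of_pow_eq_one h4
        rw [hg] at h5
        exact hne ((Nat.prime_dvd_prime_iff_eq hq1 Nat.prime_two).1 (hq1.dvd_of_dvd_pow h5))
      exact ⟨_, Nat.eq_prime_pow_of_unique_prime_dvd Nat.card_pos.ne' (hall _)⟩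
    exact hnot h2
  have hgq : ∀ q ∈ T, g * q * g⁻¹ ∈ T := fun q hq' => hTn.conj_mem q hq' g
  have htwo : ∀ x ∈ (Q : Subgroup K), ∃ k : ℕ, x ^ (2 ^ k) = 1 := by
    intro x hx
    obtain ⟨k, hk⟩ := hq.two ⟨x, hx⟩
    exact ⟨k, congrArg Subtype.val hk⟩
  -- `T ∩ ⟨c⟩` is cyclic
  obtain ⟨b, hb⟩ : ∃ b, zpowers b = T ⊓ zpowers c := by
    have h1 : IsCyclic (zpowers c) := inferInstance
    have h2 : IsCyclic (T.subgroupOf (zpowers c)) := inferInstance
    obtain ⟨b, hb⟩ := h2.exists_generator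
    refine ⟨((b : zpowers c) : K), ?_⟩
    apply le_antisymm
    · rw [zpowers_le]
      exact mem_inf.mpr ⟨b.2, (b : zpowers c).2⟩
    · intro x hx
      obtain ⟨hx1, hx2⟩ := mem_inf.mp hx
      obtain ⟨k, hk⟩ := mem_zpowers_iff.mp (hb ⟨⟨x, hx2⟩, hx1⟩)
      rw [mem_zpowers_iff]
      exact ⟨k, by simpa using congrArg (fun y : (T.subgroupOf (zpowers c)) => ((y : zpowers c) : K)) hk⟩
  have hbB : b ∈ T ⊓ zpowers c := by rw [← hb]; exact mem_zpowers b
  obtain ⟨hbT, hbA⟩ := mem_inf.mp hbB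
  obtain ⟨kb, hkb⟩ := htwo b (hTQ hbT)
  have hcase : g * b * g⁻¹ ∉ zpowers c := by
    intro hcase
    have hgb : Commute g b := by
      apply commute_of_zpowers hkb hg
      rw [hb]
      exact mem_inf.mpr ⟨hgq b hbT, hcase⟩
    have hgB : ∀ x ∈ T, x ∈ zpowers c → Commute g x := by
      intro x hx1 hx2
      have : x ∈ zpowers b := by rw [hb]; exact mem_inf.mpr ⟨hx1, hx2⟩
      obtain ⟨k, rfl⟩ := mem_zpowers_iff.mp this
      exact hgb.zpow_right k
    apply hgT
    rw [mem_centralizer_iff]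
    intro q hq1
    by_cases hqA : q ∈ zpowers c
    · exact (hgB q hq1 hqA).eq.symm
    · have h1 : g * q * g⁻¹ ∉ zpowers c := by
        intro h1
        have h2 : Commute g (g * q * g⁻¹) := hgB _ (hgq q hq1) h1
        apply hqA
        have h3 : q = g * q * g⁻¹ := by
          have h4 := h2.eq
          have h5 : g * (g * q * g⁻¹) = g * q := by rw [h4]; group
          exact (mul_left_cancel h5).symm
        rw [h3]; exact h1
      have hu1 : q⁻¹ * (g * q * g⁻¹) ∈ zpowers c :=
        hq.quot _ (hTQ hq1) _ (hTQ (hgq q hq1)) hqA h1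
      have huQ : q⁻¹ * (g * q * g⁻¹) ∈ T := mul_mem (inv_mem hq1) (hgq q hq1)
      set u := q⁻¹ * (g * q * g⁻¹) with hu_def
      have hgu : Commute g u := hgB u huQ hu1
      have h2 : g * q * g⁻¹ = q * u := by rw [hu_def]; group
      have h3 : ∀ m : ℕ, g ^ m * q * (g ^ m)⁻¹ = q * u ^ m := by
        intro m
        induction m with
        | zero => simp
        | succ m ih =>
          have : g ^ (m + 1) * q * (g ^ (m + 1))⁻¹ = g * (g ^ m * q * (g ^ m)⁻¹) * g⁻¹ := by
            rw [pow_succ']; group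
          rw [this, ih]
          have h4 : g * (q * u ^ m) * g⁻¹ = (g * q * g⁻¹) * (g * u ^ m * g⁻¹) := by group
          rw [h4, h2, (hgu.pow_right m).eq, mul_inv_cancel_right, mul_assoc, pow_succ']
      have h5 := h3 (orderOf g)
      rw [pow_orderOf_eq_one] at h5
      have h6 : u ^ orderOf g = 1 := by
        simpa using h5.symm
      obtain ⟨k, hk⟩ := htwo u (hTQ huQ)
      have h7 : u = 1 := by
        rw [← orderOf_eq_one_iff]
        exact Nat.eq_one_of_dvd_coprimes
          (Nat.Coprime.pow_left k (Nat.coprime_two_left.mpr hg))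
          (orderOf_dvd_of_pow_eq_one hk) (orderOf_dvd_of_pow_eq_one h6)
      rw [h7, mul_one, mul_inv_eq_iff_eq_mul] at h2
      exact h2.symm
  set j := g * b * g⁻¹ with hj_def
  have hjT : j ∈ T := hgq b hbT
  have hjz : j ^ 2 = z0 := hq.sq j (hTQ hjT) hcase
  have hb2 : b ^ 2 = z0 := by
    have h1 : g * (b ^ 2) * g⁻¹ = z0 := by rw [← hjz, hj_def, conj_pow]
    have h2 : g * (b ^ 2) * g⁻¹ = g * z0 * g⁻¹ := by rw [h1, hzc]
    exact mul_left_cancel (mul_right_cancel h2)
  have hob : orderOf b = 4 := by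
    rw [show (4 : ℕ) = 2 ^ (1 + 1) from rfl]
    refine orderOf_eq_prime_pow ?_ ?_
    · rw [pow_one, hb2]; exact hq.z_ne
    · rw [show (2 : ℕ) ^ (1 + 1) = 2 * 2 from rfl, pow_mul, hb2, pow_two, hzz]
  have hsqT : ∀ x ∈ T, x ^ 2 ∈ zpowers z0 := by
    intro x hx
    by_cases hxc : x ∈ zpowers c
    · have : x ∈ zpowers b := by rw [hb]; exact mem_inf.mpr ⟨hx, hxc⟩
      obtain ⟨k, rfl⟩ := mem_zpowers_iff.mp this
      rw [← zpow_natCast, ← zpow_mul, mul_comm, zpow_mul, zpow_natCast, hb2]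
      exact zpow_mem (mem_zpowers z0) k
    · rw [hq.sq x (hTQ hx) hxc]
      exact mem_zpowers z0
  -- the order of `T`
  have hcardT : Nat.card T = 8 := by
    have h1 : (zpowers b).relIndex T = 2 := by
      rw [Subgroup.relIndex, Subgroup.index_eq_two_iff]
      refine ⟨⟨j, hjT⟩, ?_⟩
      rintro ⟨x, hx⟩
      rw [mem_subgroupOf, mem_subgroupOf]
      show Xor (x * j ∈ zpowers b) (x ∈ zpowers b)
      rw [hb]
      by_cases hxc : x ∈ zpowers c
      · right
        refine ⟨mem_inf.2 ⟨hx, hxc⟩, fun h => hcase ?_⟩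
        have h2 := (mem_inf.1 h).2
        have h3 := mul_mem (inv_mem hxc) h2
        rwa [inv_mul_cancel_left] at h3
      · left
        refine ⟨mem_inf.2 ⟨mul_mem hx hjT, ?_⟩, fun h => hxc (mem_inf.1 h).2⟩
        have h2 := hq.quot x⁻¹ (inv_mem (hTQ hx)) j (hTQ hjT)
          (fun h => hxc (by simpa using inv_mem h)) hcase
        rwa [inv_inv] at h2
    have h2 := Subgroup.relIndex_mul_relIndex (⊥ : Subgroup K) (zpowers b) T bot_le
      (by rw [zpowers_le]; exact hbT)
    rw [Subgroup.relIndex_bot_left, Subgroup.relIndex_bot_left, Nat.card_zpowers, hob, h1] at h2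
    exact h2.symm
  -- the quotient
  have hzT : z0 ∈ T := by rw [← hb2]; exact pow_mem hbT 2
  set f := QuotientGroup.mk' (zpowers z0) with hf
  have hfs : Function.Surjective f := QuotientGroup.mk'_surjective _
  have hfk : f.ker = zpowers z0 := QuotientGroup.ker_mk' _
  set V : Subgroup (K ⧸ zpowers z0) := T.map f with hV
  have hVn : V.Normal := hTn.map f hfs
  have hcardV : Nat.card V = 4 := by
    have h1 : (zpowers z0).relIndex T = Nat.card V := by
      have h0 := Subgroup.relIndex_ker (K := T) f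
      rwa [hfk] at h0
    have h2 := Subgroup.relIndex_mul_relIndex (⊥ : Subgroup K) (zpowers z0) T bot_le
      (by rw [zpowers_le]; exact hzT)
    rw [Subgroup.relIndex_bot_left, Subgroup.relIndex_bot_left, Nat.card_zpowers, hz2, h1,
      hcardT] at h2
    omega
  have hVsq : ∀ v ∈ V, v ^ 2 = 1 := by
    rintro _ ⟨x, hx, rfl⟩
    rw [← map_pow, ← MonoidHom.mem_ker, hfk]
    exact hsqT x hx
  have hVcomm : ∀ x ∈ V, ∀ y ∈ V, x * y = y * x := by
    intro x hx y hy
    have h1 := hVsq x hx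
    have h2 := hVsq y hy
    have h3 := hVsq _ (V.mul_mem hx hy)
    rw [pow_two] at h1 h2 h3
    calc x * y = x * (x * y * (x * y)) * y := by rw [h3]; group
      _ = (x * x) * (y * x) * (y * y) := by group
      _ = y * x := by rw [h1, h2]; group
  have hVC : ∀ g : K ⧸ zpowers z0, (∀ v ∈ V, g * v = v * g) → g ∈ V := by
    set C : Subgroup K := (Subgroup.centralizer (V : Set (K ⧸ zpowers z0))).comap f with hCdef
    have hCn : C.Normal := (Subgroup.Normal.comap (inferInstance) f)
    have hCp : IsPGroup 2 C := by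
      rintro ⟨k, hk⟩
      have hk2 : k ^ 2 ∈ Subgroup.centralizer (T : Set K) := by
        rw [mem_centralizer_iff]
        intro x hx
        rw [hCdef, mem_comap, mem_centralizer_iff] at hk
        have h1 := hk (f x) ⟨x, hx, rfl⟩
        have h2 : f (x⁻¹ * (k * x * k⁻¹)) = 1 := by
          rw [map_mul, map_mul, map_mul, map_inv, map_inv, ← h1]; group
        rw [← MonoidHom.mem_ker, hfk] at h2
        set ζ := x⁻¹ * (k * x * k⁻¹) with hζ
        have h3 : k * x * k⁻¹ = x * ζ := by rw [hζ]; group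
        obtain ⟨i, hi⟩ := mem_zpowers_iff.1 h2
        have h4 : k * ζ * k⁻¹ = ζ := by
          rw [← hi, ← conj_zpow, hzc]
        have h5 : ζ * ζ = 1 := by
          rw [← hi, ← zpow_add, ← two_mul, zpow_mul]
          rw [zpow_ofNat, hq.z_sq, one_zpow]
        have h6 : k * (x * ζ) * k⁻¹ = x := by
          have : k * (x * ζ) * k⁻¹ = (k * x * k⁻¹) * (k * ζ * k⁻¹) := by group
          rw [this, h3, h4, mul_assoc, h5, mul_one]
        have h7 : k ^ 2 * x * (k ^ 2)⁻¹ = x := by
          have : k ^ 2 * x * (k ^ 2)⁻¹ = k * (k * x * k⁻¹) * k⁻¹ := by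
            simp [pow_succ, mul_assoc]
          rw [this, h3, h6]
        rw [mul_inv_eq_iff_eq_mul] at h7
        exact h7.symm
      obtain ⟨i, hi⟩ := hTp ⟨k ^ 2, hCT hk2⟩
      have h1 : (k ^ 2) ^ (2 ^ i) = 1 := congrArg Subtype.val hi
      refine ⟨i + 1, Subtype.ext ?_⟩
      show k ^ (2 ^ (i + 1)) = 1
      rw [pow_succ', pow_mul, h1]
    have hCT' : C ≤ T := Cfsg.Agent.Lib.HallHigman.le_pCore hCn hCp
    intro g hg
    obtain ⟨k, rfl⟩ := hfs g
    refine ⟨k, hCT' ?_, rfl⟩
    rw [hCdef, mem_comap, mem_centralizer_iff]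
    intro v hv
    exact (hg v hv).symm
  -- the order of the quotient
  have : Fintype V := Fintype.ofFinite _
  let ψ : (K ⧸ zpowers z0) →* Equiv.Perm V :=
    (MulAut.toPerm V).comp (MulAut.conjNormal (H := V))
  have hψ : ∀ (k : K ⧸ zpowers z0) (v : V), ((ψ k v : V) : K ⧸ zpowers z0) = k * v * k⁻¹ := by
    intro k v
    exact MulAut.conjNormal_apply k v
  have hker : ψ.ker = V := by
    apply le_antisymm
    · intro k hk
      apply hVC
      intro v hv
      have h1 := hψ k ⟨v, hv⟩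
      rw [MonoidHom.mem_ker.1 hk] at h1
      have h2 : v = k * v * k⁻¹ := h1
      rw [eq_mul_inv_iff_mul_eq] at h2
      exact h2.symm
    · intro k hk
      rw [MonoidHom.mem_ker]
      ext v
      rw [hψ, hVcomm k hk v v.2, mul_assoc, mul_inv_cancel, mul_one]
      rfl
  have hfixone : ψ.range ≤ MulAction.stabilizer (Equiv.Perm V) (1 : V) := by
    rintro _ ⟨k, rfl⟩
    rw [MulAction.mem_stabilizer_iff]
    apply Subtype.ext
    change ((ψ k 1 : V) : K ⧸ zpowers z0) = _
    rw [hψ]; simp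
  have hst : Nat.card (MulAction.stabilizer (Equiv.Perm V) (1 : V)) = 6 := by
    have h1 := (MulAction.stabilizer (Equiv.Perm V) (1 : V)).card_mul_index
    have h2 : Nat.card (Equiv.Perm V) = 24 := by
      rw [Nat.card_perm, hcardV]; rfl
    have h3 : (MulAction.stabilizer (Equiv.Perm V) (1 : V)).index = 4 := by
      rw [MulAction.index_stabilizer_of_transitive, hcardV]
    rw [h2, h3] at h1
    omega
  have hdvd : Nat.card ψ.range ∣ 6 := by
    rw [← hst]
    exact Subgroup.card_dvd_of_le hfixone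
  have h6 : Nat.card (K ⧸ zpowers z0) = 4 * Nat.card ψ.range := by
    have h7 := V.card_mul_index
    rw [hcardV, ← hker, Subgroup.index_ker] at h7
    exact h7.symm
  have h7 : Nat.card K = 4 * Nat.card ψ.range * 2 := by
    rw [Subgroup.card_eq_card_quotient_mul_card_subgroup (zpowers z0), h6, Nat.card_zpowers, hz2]
  rw [h7]
  obtain ⟨w, hw⟩ := hdvd
  exact ⟨w, by rw [show (48 : ℕ) = 8 * 6 from rfl, hw]; ring⟩

/-- A solvable group with generalized quaternion Sylow 2-subgroups of order at least 8 and trivial odd core is a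
2-group or has order dividing 48. -/
theorem card_dvd' {K : Type*} [Group K] [Finite K] [Group.IsSolvable K]
    (hO : Cfsg.oddCore K = ⊥) (Q : Sylow 2 K) (m : ℕ)
    (e : (Q : Subgroup K) ≃* QuaternionGroup (2 ^ m)) (hnot : ¬ IsPGroup 2 K) :
    Nat.card K ∣ 48 := by
  classical
  have hp2 : Fact (Nat.Prime 2) := ⟨Nat.prime_two⟩
  have hK1 : Nontrivial K := by
    by_contra hcon
    rw [not_nontrivial_iff_subsingleton] at hcon
    exact hnot (fun g => ⟨0, Subsingleton.elim _ _⟩)
  set T : Subgroup K := Cfsg.pCore 2 K with hT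
  have hTn : T.Normal := Cfsg.Agent.Lib.HallHigman.pCore_normal 2
  have hTp : IsPGroup 2 T := Cfsg.Agent.Lib.HallHigman.pCore_isPGroup 2
  have hTQ : T ≤ Q := Cfsg.Agent.Lib.HallHigman.pCore_le_sylow 2 Q
  have hCT : Subgroup.centralizer (T : Set K) ≤ T :=
    Cfsg.Agent.Lib.HallHigman.centralizer_pCore_le_of_solvable 2 hO
  obtain ⟨c, z, hq⟩ := exists_isQuat (Q : Subgroup K) m ⟨e⟩
  have hz2 : orderOf z = 2 := orderOf_eq_prime hq.z_sq hq.z_ne
  -- the unique involution of `Q`
  have huQ : ∀ x ∈ (Q : Subgroup K), orderOf x = 2 → x = z := by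
    intro x hx hx2
    have hx1 : x ≠ 1 := by rintro rfl; rw [orderOf_one] at hx2; omega
    have hxx : x ^ 2 = 1 := by rw [← hx2]; exact pow_orderOf_eq_one x
    by_cases hxc : x ∈ zpowers c
    · rcases hq.invol x hxc hxx with h | h
      · exact absurd h hx1
      · exact h
    · have := hq.sq x hx hxc
      rw [hxx] at this
      exact absurd this.symm hq.z_ne
  have hTne : T ≠ ⊥ := by
    intro hbot
    have h1 : (⊤ : Subgroup K) ≤ ⊥ := by
      rw [← hbot]
      refine le_trans ?_ hCT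
      intro x _
      rw [mem_centralizer_iff]
      intro y hy
      rw [hbot, SetLike.mem_coe, mem_bot] at hy
      rw [hy]; simp
    obtain ⟨x, hx⟩ := exists_ne (1 : K)
    exact hx (mem_bot.1 (h1 (mem_top x)))
  obtain ⟨t, htT, ht2⟩ : ∃ t ∈ T, orderOf t = 2 := by
    have h1 : 2 ∣ Nat.card T := by
      obtain ⟨n, hn⟩ := IsPGroup.iff_card.1 hTp
      have : n ≠ 0 := by
        rintro rfl
        rw [pow_zero, Subgroup.card_eq_one] at hn
        exact hTne hn
      rw [hn]
      exact dvd_pow_self 2 this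
    obtain ⟨t, ht⟩ := exists_prime_orderOf_dvd_card' (G := T) 2 h1
    exact ⟨t, t.2, by rw [← ht]; exact Subgroup.orderOf_coe t⟩
  have htz : t = z := huQ t (hTQ htT) ht2
  have hzT : z ∈ T := htz ▸ htT
  have hzc : ∀ x : K, x * z * x⁻¹ = z := by
    intro x
    apply huQ _ (hTQ (hTn.conj_mem z hzT x))
    rw [← hz2]
    exact (MulAut.conj x).orderOf_eq z
  have hzn : (Subgroup.zpowers z).Normal := by
    refine ⟨fun n hn g => ?_⟩
    obtain ⟨k, rfl⟩ := mem_zpowers_iff.1 hn
    rw [← conj_zpow, hzc]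
    exact zpow_mem (mem_zpowers z) k
  have hu : ∀ x : K, orderOf x = 2 → x = z := by
    intro x hx
    have hxp : IsPGroup 2 (zpowers x) := by
      rw [IsPGroup.iff_card]
      exact ⟨1, by rw [Nat.card_zpowers, hx, pow_one]⟩
    obtain ⟨P, hP⟩ := hxp.exists_le_sylow
    obtain ⟨g, hg⟩ := MulAction.exists_smul_eq K P Q
    have h1 : g * x * g⁻¹ ∈ (Q : Subgroup K) := by
      rw [← hg]
      refine ⟨x, hP (mem_zpowers x), rfl⟩
    have h2 : g * x * g⁻¹ = z := by
      apply huQ _ h1
      rw [← hx]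
      exact (MulAut.conj g).orderOf_eq x
    have h3 : g * x * g⁻¹ = g * z * g⁻¹ := by rw [h2, hzc]
    exact mul_left_cancel (mul_right_cancel h3)
  exact card_dvd hO z hz2 hu Q m e hnot

end Cfsg.Agent.H332.QuatSolv
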