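import Cfsg.Agent.H332.Upper

/-!
# Reductions

`card_le_L` : the bound `2 ^ 15` in the centraliser of `z`, `y`, `t`; `card_le_F` : in the inverse image of the frame
stabiliser `F`; `exists_conj_le` : 2-subgroups are conjugate into subgroups of odd index.
-/

set_option autoImplicit false

open Cfsg

namespace Cfsg.Agent.H332.Reduce

open Cfsg.Agent.SporadicStructure.LeechBase (zmod2_cases)
open Cfsg.Agent.MonsterU.Lam2
open Cfsg.Agent.MonsterU.CoFrameL2
open Cfsg.Agent.MonsterU.Ch
open Cfsg.Agent.MonsterU.AmalGen (pre mem_pre pre_le z_mem_pre bf_W12 mem_W12_of_bf pre_conj)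
open Cfsg.Agent.H848.TrioU (pairL)
open Cfsg.Agent.H848.TrioK (qf_W12)
open Cfsg.Agent.H332.GolayE
open Cfsg.Agent.H332.Replace
open Cfsg.Agent.H332.Upper
open Cfsg.Spor (Co1)

variable {G : Type*} [Group G] {Q : Subgroup G} {z : G} {eta : G → L2}
  {pi : Subgroup.centralizer ({z} : Set G) →* Co1}

/-- the second involution and its type -/
structure Pt (h : Chart Q z eta pi) (t : G) (e : Finset GolayPt) : Prop where
  tQ : t ∈ Q
  eta_t : eta t ∈ W12
  pair_t : ∀ d : Cfsg.golayCode, pairL (eta t) d = ∑ p ∈ e, (d : Wd) p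
  ok : Ok e
  t_one : e.card = 0 → t = 1

variable {h : Chart Q z eta pi} {y t : G} {e : Finset GolayPt}

theorem pre_EA (h : Chart Q z eta pi) : EA (pre h W12) := by
  refine ⟨fun a ha b hb => ?_, fun a ha => ?_⟩
  · rw [h.comm_iff ha.1 hb.1]
    exact bf_W12 ha.2 hb.2
  · rw [h.sq_one ha.1]
    exact qf_W12 ha.2

theorem f0_mem_W12 : f0 ∈ W12 := W1_le_W12 f0_mem_W1

/-- **The bound in the centraliser of `z`, `y`, `t`.** -/
theorem card_le_L [Finite G] (hyQ : y ∈ Q) (hy : eta y = f0) (ht : Pt h t e) {E : Subgroup G}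
    (Ez : ∀ a ∈ E, a * z = z * a) (Ey : ∀ a ∈ E, a * y = y * a) (Et : ∀ a ∈ E, a * t = t * a) (tE : t ∈ E)
    (hmod : EAmod (Subgroup.zpowers t) E) : Nat.card E ≤ 2 ^ 15 := by
  set L : Subgroup G := Subgroup.centralizer {z} ⊓ Subgroup.centralizer {y} ⊓ Subgroup.centralizer {t} with hL
  have memL : ∀ {a : G}, a ∈ L ↔ a * z = z * a ∧ a * y = y * a ∧ a * t = t * a := by
    intro a
    rw [hL, Subgroup.mem_inf, Subgroup.mem_inf, Subgroup.mem_centralizer_singleton_iff,
      Subgroup.mem_centralizer_singleton_iff, Subgroup.mem_centralizer_singleton_iff, and_assoc]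
  have hV := pre_EA h
  have zV : z ∈ pre h W12 := z_mem_pre h W12
  have yV : y ∈ pre h W12 := ⟨hyQ, by rw [hy]; exact f0_mem_W12⟩
  have tV : t ∈ pre h W12 := ⟨ht.tQ, ht.eta_t⟩
  have hVL : pre h W12 ≤ L := fun v hv => memL.2 ⟨hV.1 v hv z zV, hV.1 v hv y yV, hV.1 v hv t tV⟩
  have hEL : E ≤ L := fun a ha => memL.2 ⟨Ez a ha, Ey a ha, Et a ha⟩
  have hpow : ∀ {x : G}, x ∈ Subgroup.zpowers t → ∀ g, g * t = t * g → x * g = g * x := by
    intro x hx g hg
    obtain ⟨n, rfl⟩ := Subgroup.mem_zpowers_iff.1 hx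
    exact ((show Commute g t from hg).zpow_right n).symm
  have hF : ∀ (c : Subgroup.centralizer ({z} : Set G)), (c : G) * y = y * c → pi c ∈ F := by
    intro c hc
    rw [mem_F_iff, ← hy, ← h.eta_conj c y hyQ, hc, mul_inv_cancel_right]
  obtain ⟨E', hE'L, hTE', hmod', hcard, hz', hdd⟩ := exists_good_rel (L := L) (V := pre h W12)
    (T := Subgroup.zpowers t) (E₀ := E) hVL
    (fun x hx g hg => hpow hx g (memL.1 hg).2.2) hV
    (fun g hg v hv => by
      have hg' := memL.1 hg
      exact pre_conj h ⟨g, Subgroup.mem_centralizer_singleton_iff.2 hg'.1⟩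
        (fun x hx => F_mem_W12 (hF _ hg'.2.1) hx) hv)
    hEL (by rw [Subgroup.zpowers_le]; exact tE) hmod
  refine hcard.trans ?_
  have s : Setup h y t e E' :=
    { yQ := hyQ
      eta_y := hy
      tQ := ht.tQ
      eta_t := ht.eta_t
      pair_t := ht.pair_t
      ok := ht.ok
      t_one := ht.t_one
      Ez := fun a ha => (memL.1 (hE'L ha)).1
      Ey := fun a ha => (memL.1 (hE'L ha)).2.1
      Et := fun a ha => (memL.1 (hE'L ha)).2.2
      tE := hTE' (Subgroup.mem_zpowers t)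
      mod := hmod' }
  exact s.card_le hdd

theorem t_ne_z (ht : Pt h t e) {x : G} (hx : x ∈ Subgroup.zpowers t) (hxz : x = 1 ∨ x = z) : x = 1 := by
  rcases hxz with h1 | h1
  · exact h1
  · exfalso
    have ht2 : t * t = 1 := (h.sq_one ht.tQ).2 (qf_W12 ht.eta_t)
    have hx' : x = 1 ∨ x = t := by
      obtain ⟨n, rfl⟩ := Subgroup.mem_zpowers_iff.1 hx
      have h2 : t ^ (2 : ℤ) = 1 := by rw [zpow_two, ht2]
      rcases Int.even_or_odd' n with ⟨k, rfl | rfl⟩
      · left; rw [zpow_mul, h2, one_zpow]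
      · right; rw [zpow_add, zpow_mul, h2, one_zpow, one_mul, zpow_one]
    rcases hx' with h2 | h2
    · rw [h2] at h1
      exact h.large.z_ne h1.symm
    · -- `t = z` is impossible
      have htz : t = z := h2.symm.trans h1
      rcases ht.ok with h0 | h0
      · have := ht.t_one h0
        rw [this] at htz
        exact h.large.z_ne htz.symm
      · obtain ⟨i, j, hij, rfl⟩ := Finset.card_eq_two.1 h0
        obtain ⟨w, hw, hv⟩ := Cfsg.Agent.SporadicStructure.GolayInterp.exists_word_interp ({i, j} : Finset GolayPt)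
          (by rw [h0]; norm_num) (fun r => if r = i then 1 else 0)
        have h4 := ht.pair_t ⟨w, hw⟩
        rw [htz, h.eta_z, Cfsg.Agent.H848.TrioU.pairL_zero, Finset.sum_pair hij] at h4
        change 0 = w i + w j at h4
        rw [hv i (by simp), hv j (by simp), if_pos rfl, if_neg hij.symm, add_zero] at h4
        exact absurd h4 (by decide)

/-- **The bound in the inverse image of the frame stabiliser.** -/
theorem card_le_F [Finite G] (hyQ : y ∈ Q) (hy : eta y = f0) (ht : Pt h t e) {E : Subgroup G}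
    (Ez : ∀ a ∈ E, a * z = z * a) (EF : ∀ (a : G) (ha : a ∈ E), pi ⟨a, Subgroup.mem_centralizer_singleton_iff.2 (Ez a ha)⟩ ∈ F)
    (Et : ∀ a ∈ E, a * t = t * a) (tE : t ∈ E)
    (hmod : EAmod (Subgroup.zpowers t) E) : Nat.card E ≤ 2 ^ 15 := by
  have hconj : ∀ a ∈ E, a * y * a⁻¹ = y ∨ a * y * a⁻¹ = y * z := by
    intro a ha
    have h1 := h.eta_conj ⟨a, Subgroup.mem_centralizer_singleton_iff.2 (Ez a ha)⟩ y hyQ
    rw [hy, smul_f0 (EF a ha), ← hy] at h1
    exact (h.eta_eq (h.large.conj_mem a (Ez a ha) y hyQ) hyQ).1 h1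
  by_cases hall : ∀ a ∈ E, a * y = y * a
  · exact card_le_L hyQ hy ht Ez hall Et tE hmod
  · have hV := pre_EA h
    have yV : y ∈ pre h W12 := ⟨hyQ, by rw [hy]; exact f0_mem_W12⟩
    have tV : t ∈ pre h W12 := ⟨ht.tQ, ht.eta_t⟩
    have zV : z ∈ pre h W12 := z_mem_pre h W12
    have hty : t * y = y * t := hV.1 t tV y yV
    have hy2 : y * y = 1 := hV.2 y yV
    have hyE : y ∉ E := by
      intro hyE
      apply hall
      intro a ha
      have h1 := hmod.1 a ha y hyE
      have h2 : a * y * a⁻¹ * y⁻¹ = 1 := t_ne_z ht h1 (by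
        rcases hconj a ha with h3 | h3
        · left; rw [h3, mul_inv_cancel]
        · right
          calc a * y * a⁻¹ * y⁻¹ = y * (z * y⁻¹) := by rw [h3, mul_assoc]
            _ = y * (y⁻¹ * z) := by rw [h.large.comm_z _ (Q.inv_mem hyQ)]
            _ = z := by group)
      rw [mul_inv_eq_one, mul_inv_eq_iff_eq_mul] at h2
      exact h2
    -- the centraliser of `y` in `E`
    set E0 : Subgroup G := E ⊓ Subgroup.centralizer {y} with hE0
    have memE0 : ∀ {a : G}, a ∈ E0 ↔ a ∈ E ∧ a * y = y * a := by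
      intro a
      rw [hE0, Subgroup.mem_inf, Subgroup.mem_centralizer_singleton_iff]
    have c1 : Nat.card E ≤ Nat.card E0 * 2 := by
      have := card_le_mul E E0 (fun a => a * y * a⁻¹) ({y, y * z} : Set G) (Set.toFinite _)
        (fun a ha => by
          rcases hconj a ha with h3 | h3
          · left; exact h3
          · right; exact h3)
        (fun a ha b hb hab => by
          change a * y * a⁻¹ = b * y * b⁻¹ at hab
          refine memE0.2 ⟨E.mul_mem (E.inv_mem ha) hb, ?_⟩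
          calc a⁻¹ * b * y = a⁻¹ * (b * y * b⁻¹) * b := by group
            _ = a⁻¹ * (a * y * a⁻¹) * b := by rw [hab]
            _ = y * (a⁻¹ * b) := by group)
      have h2 : ({y, y * z} : Set G).ncard ≤ 2 := by
        refine (Set.ncard_insert_le _ _).trans ?_
        rw [Set.ncard_singleton]
      exact this.trans (Nat.mul_le_mul_left _ h2)
    -- adjoin `y`
    have hE0mod : EAmod (Subgroup.zpowers t) E0 :=
      ⟨fun a ha b hb => hmod.1 a (memE0.1 ha).1 b (memE0.1 hb).1, fun a ha => hmod.2 a (memE0.1 ha).1⟩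
    have hcomm : ∀ a ∈ E0, ∀ b ∈ Subgroup.zpowers y, a * b = b * a := fun a ha b hb => zpowers_comm (memE0.1 ha).2 hb
    have c2 := card_adjoin (E := E0) (y := y) (fun h1 => hyE (memE0.1 h1).1)
    have c3 : Nat.card (E0 ⊔ Subgroup.zpowers y : Subgroup G) ≤ 2 ^ 15 := by
      have hgen : ∀ w : G, y * w = w * y → (∀ a ∈ E, a * w = w * a) → ∀ x ∈ E0 ⊔ Subgroup.zpowers y, x * w = w * x := by
        intro w hyw hEw x hx
        obtain ⟨a, ha, b, hb, rfl⟩ := mem_sup_comm hcomm hx
        have h1 : w * b = b * w := zpowers_comm hyw.symm hb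
        calc a * b * w = a * (w * b) := by rw [h1, mul_assoc]
          _ = (a * w) * b := by group
          _ = w * (a * b) := by rw [hEw a (memE0.1 ha).1]; group
      refine card_le_L hyQ hy ht (E := E0 ⊔ Subgroup.zpowers y) (hgen z (hV.1 y yV z zV) Ez) ?_ (hgen t hty.symm Et) ?_
        (hE0mod.adjoin hy2 fun a ha => (memE0.1 ha).2)
      · intro x hx
        obtain ⟨a, ha, b, hb, rfl⟩ := mem_sup_comm hcomm hx
        have h1 : y * b = b * y := zpowers_comm rfl hb
        calc a * b * y = a * (y * b) := by rw [h1, mul_assoc]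
          _ = (a * y) * b := by group
          _ = y * (a * b) := by rw [(memE0.1 ha).2]; group
      · exact (le_sup_left : E0 ≤ _) (memE0.2 ⟨tE, hty⟩)
    omega

/-- **2-subgroups are conjugate into subgroups of odd index.** -/
theorem exists_conj_le [Finite G] {D C E : Subgroup G} (hEC : E ≤ C) (hodd : Odd (D.relIndex C))
    (hE : IsPGroup 2 E) : ∃ c ∈ C, ∀ a ∈ E, c⁻¹ * a * c ∈ D := by
  -- `E` acts on the cosets of `D` in `C`
  let D' : Subgroup C := D.subgroupOf C
  let E' : Subgroup C := E.subgroupOf C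
  have hE' : IsPGroup 2 E' := hE.of_equiv (Subgroup.subgroupOfEquivOfLe hEC).symm
  have hcard : Nat.card (C ⧸ D') = D.relIndex C := rfl
  have h2 : ¬ 2 ∣ Nat.card (C ⧸ D') := by
    rw [hcard]
    exact hodd.not_two_dvd_nat
  have : Fact (Nat.Prime 2) := ⟨Nat.prime_two⟩
  obtain ⟨x, hx⟩ := hE'.nonempty_fixed_point_of_prime_not_dvd_card (C ⧸ D') h2
  obtain ⟨c, rfl⟩ := QuotientGroup.mk_surjective x
  refine ⟨c, c.2, fun a ha => ?_⟩
  have h3 := hx ⟨⟨a, hEC ha⟩, ha⟩
  have h4 : (QuotientGroup.mk ((⟨a, hEC ha⟩ : C) * c) : C ⧸ D') = QuotientGroup.mk c := h3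
  have h5 := QuotientGroup.eq.1 h4.symm
  have h6 := Subgroup.mem_subgroupOf.1 h5
  have : ((c⁻¹ * ((⟨a, hEC ha⟩ : C) * c) : C) : G) = (c : G)⁻¹ * a * c := by
    show (c : G)⁻¹ * (a * c) = _
    rw [mul_assoc]
  rwa [this] at h6

end Cfsg.Agent.H332.Reduce
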