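import Mathlib

/-!
# Thompson replacement for elementary abelian 2-subgroups

`thompson`: `V` a normal elementary abelian subgroup of a finite group, `E` an elementary abelian 2-subgroup of
largest order and, subject to this, with `|E ∩ V|` as large as possible; then `[V, E] ≤ E`.
`exists_good`, `exists_good_rel`: every elementary abelian subgroup (modulo a central subgroup `T ≤ V`) can be
replaced by one of at least the same order with `[V, E] ≤ E`, containing the central involutions.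
-/

set_option autoImplicit false

namespace Cfsg.Agent.H332.Replace

/-- elementary abelian 2-subgroup -/
def EA {G : Type*} [Group G] (E : Subgroup G) : Prop := (∀ a ∈ E, ∀ b ∈ E, a * b = b * a) ∧ ∀ a ∈ E, a * a = 1

variable {G : Type*} [Group G]

theorem EA.inv {E : Subgroup G} (h : EA E) {a : G} (ha : a ∈ E) : a⁻¹ = a :=
  inv_eq_of_mul_eq_one_left (h.2 a ha)

theorem mem_sup_comm {A B : Subgroup G} (h : ∀ a ∈ A, ∀ b ∈ B, a * b = b * a) {x : G} (hx : x ∈ A ⊔ B) :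
    ∃ a ∈ A, ∃ b ∈ B, x = a * b := by
  refine Subgroup.closure_induction (p := fun x _ => ∃ a ∈ A, ∃ b ∈ B, x = a * b) ?_ ?_ ?_ ?_
    (show x ∈ Subgroup.closure ((A : Set G) ∪ B) by rwa [← Subgroup.sup_eq_closure])
  · rintro x (hx | hx)
    · exact ⟨x, hx, 1, B.one_mem, (mul_one x).symm⟩
    · exact ⟨1, A.one_mem, x, hx, (one_mul x).symm⟩
  · exact ⟨1, A.one_mem, 1, B.one_mem, (mul_one 1).symm⟩
  · rintro _ _ - - ⟨a, ha, b, hb, rfl⟩ ⟨a', ha', b', hb', rfl⟩
    refine ⟨a * a', A.mul_mem ha ha', b * b', B.mul_mem hb hb', ?_⟩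
    rw [mul_assoc, ← mul_assoc b, ← h a' ha' b hb, mul_assoc a' b, ← mul_assoc]
  · rintro _ - ⟨a, ha, b, hb, rfl⟩
    refine ⟨a⁻¹, A.inv_mem ha, b⁻¹, B.inv_mem hb, ?_⟩
    rw [mul_inv_rev, h _ (A.inv_mem ha) _ (B.inv_mem hb)]

/-- the product of two elementary abelian subgroups which centralise each other -/
theorem EA.sup {A B : Subgroup G} (hA : EA A) (hB : EA B) (h : ∀ a ∈ A, ∀ b ∈ B, a * b = b * a) : EA (A ⊔ B) := by
  have hmem : ∀ x ∈ A ⊔ B, ∃ a ∈ A, ∃ b ∈ B, x = a * b := fun x hx => mem_sup_comm h hx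
  refine ⟨fun x hx y hy => ?_, fun x hx => ?_⟩
  · obtain ⟨a, ha, b, hb, rfl⟩ := hmem x hx
    obtain ⟨a', ha', b', hb', rfl⟩ := hmem y hy
    calc a * b * (a' * b') = a * (b * a') * b' := by group
      _ = a * (a' * b) * b' := by rw [h a' ha' b hb]
      _ = (a * a') * (b * b') := by group
      _ = (a' * a) * (b' * b) := by rw [hA.1 a ha a' ha', hB.1 b hb b' hb']
      _ = a' * (a * b') * b := by group
      _ = a' * (b' * a) * b := by rw [h a ha b' hb']
      _ = a' * b' * (a * b) := by group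
  · obtain ⟨a, ha, b, hb, rfl⟩ := hmem x hx
    calc a * b * (a * b) = a * (b * a) * b := by group
      _ = a * (a * b) * b := by rw [h a ha b hb]
      _ = (a * a) * (b * b) := by group
      _ = 1 := by rw [hA.2 a ha, hB.2 b hb, one_mul]

/-- the commutator with `v` -/
def dd (v e : G) : G := e * v * e⁻¹ * v⁻¹

theorem dd_mem {V : Subgroup G} [hV : V.Normal] {v : G} (hv : v ∈ V) (e : G) : dd v e ∈ V :=
  V.mul_mem (hV.conj_mem v hv e) (V.inv_mem hv)

/-- elements with the same commutator modulo `E` act in the same way on all commutators -/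
theorem act_eq {V E : Subgroup G} [hN : V.Normal] (hV : EA V) (hE : EA E) {v : G} (hv : v ∈ V) {e f g : G}
    (he : e ∈ E) (hf : f ∈ E) (hg : g ∈ E) (h : (dd v f)⁻¹ * dd v e ∈ E) :
    (f⁻¹ * e) * dd v g = dd v g * (f⁻¹ * e) := by
  set u := (dd v f)⁻¹ * dd v e with hu
  have huV : u ∈ V := V.mul_mem (V.inv_mem (dd_mem hv f)) (dd_mem hv e)
  -- conjugates of `v`
  have cV : ∀ x : G, x * v * x⁻¹ ∈ V := fun x => hN.conj_mem v hv x
  have e1 : e * v * e⁻¹ = (f * v * f⁻¹) * u := by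
    have : e * v * e⁻¹ = (f * v * f⁻¹) * v⁻¹ * (u * v) := by
      rw [hu, dd, dd]; group
    rw [this, hV.1 u huV v hv]; group
  -- `e (dd v g) e⁻¹ = f (dd v g) f⁻¹`
  have e2 : e * dd v g * e⁻¹ = f * dd v g * f⁻¹ := by
    have h1 : e * dd v g * e⁻¹ = g * (e * v * e⁻¹) * g⁻¹ * (e * v * e⁻¹)⁻¹ := by
      calc e * dd v g * e⁻¹ = (e * g) * v * (e * g)⁻¹ * (e * v * e⁻¹)⁻¹ := by rw [dd]; group
        _ = (g * e) * v * (g * e)⁻¹ * (e * v * e⁻¹)⁻¹ := by rw [hE.1 e he g hg]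
        _ = _ := by group
    have h2 : f * dd v g * f⁻¹ = g * (f * v * f⁻¹) * g⁻¹ * (f * v * f⁻¹)⁻¹ := by
      calc f * dd v g * f⁻¹ = (f * g) * v * (f * g)⁻¹ * (f * v * f⁻¹)⁻¹ := by rw [dd]; group
        _ = (g * f) * v * (g * f)⁻¹ * (f * v * f⁻¹)⁻¹ := by rw [hE.1 f hf g hg]
        _ = _ := by group
    rw [h1, h2, e1]
    have h3 : g * u * g⁻¹ = u := by rw [hE.1 g hg u h]; group
    calc g * (f * v * f⁻¹ * u) * g⁻¹ * (f * v * f⁻¹ * u)⁻¹
        = (g * (f * v * f⁻¹) * g⁻¹) * ((g * u * g⁻¹) * u⁻¹) * (f * v * f⁻¹)⁻¹ := by group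
      _ = _ := by rw [h3]; group
  calc (f⁻¹ * e) * dd v g = f⁻¹ * (e * dd v g * e⁻¹) * e := by group
    _ = f⁻¹ * (f * dd v g * f⁻¹) * e := by rw [e2]
    _ = dd v g * (f⁻¹ * e) := by group

/-- **Thompson replacement.** -/
theorem thompson [Finite G] {V E : Subgroup G} [hN : V.Normal] (hV : EA V) (hE : EA E)
    (hmax : ∀ E' : Subgroup G, EA E' → Nat.card E' ≤ Nat.card E)
    (hmaxV : ∀ E' : Subgroup G, EA E' → Nat.card E' = Nat.card E →
      Nat.card (E' ⊓ V : Subgroup G) ≤ Nat.card (E ⊓ V : Subgroup G)) :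
    ∀ v ∈ V, ∀ e ∈ E, dd v e ∈ E := by
  intro v hv e₀ he₀
  by_contra hcon
  set M : Subgroup G := Subgroup.closure ((fun e => dd v e) '' (E : Set G)) with hM
  have hMV : M ≤ V := by
    rw [hM, Subgroup.closure_le]
    rintro _ ⟨e, -, rfl⟩
    exact dd_mem hv e
  have hdM : ∀ e ∈ E, dd v e ∈ M := fun e he => Subgroup.subset_closure ⟨e, he, rfl⟩
  have hMEA : EA M := ⟨fun a ha b hb => hV.1 a (hMV ha) b (hMV hb), fun a ha => hV.2 a (hMV ha)⟩
  set C : Subgroup G := E ⊓ Subgroup.centralizer (M : Set G) with hC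
  have hCE : C ≤ E := inf_le_left
  have hCEA : EA C := ⟨fun a ha b hb => hE.1 a (hCE ha) b (hCE hb), fun a ha => hE.2 a (hCE ha)⟩
  have hCM : ∀ c ∈ C, ∀ m ∈ M, m * c = c * m := fun c hc m hm =>
    (Subgroup.mem_centralizer_iff.1 hc.2) m hm
  have hmemC : ∀ {c : G}, c ∈ E → (∀ g ∈ E, c * dd v g = dd v g * c) → c ∈ C := by
    intro c hc h
    have h1 : c ∈ Subgroup.centralizer (M : Set G) := by
      rw [hM, Subgroup.centralizer_closure, Subgroup.mem_centralizer_iff]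
      rintro _ ⟨g, hg, rfl⟩
      exact (h g hg).symm
    exact ⟨hc, h1⟩
  set E' : Subgroup G := M ⊔ C with hE'
  have hE'EA : EA E' := hMEA.sup hCEA fun m hm c hc => hCM c hc m hm
  have hME' : M ≤ E' := le_sup_left
  have hCE' : C ≤ E' := le_sup_right
  -- the injection
  let C' : Subgroup E := C.subgroupOf E
  let r : E → E := fun e => Quotient.out (e : E ⧸ C')
  have hr : ∀ e : E, (r e)⁻¹ * e ∈ C' := fun e => by
    rw [← QuotientGroup.eq]
    exact Quotient.out_eq' _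
  have hrr : ∀ e f : E, (r f)⁻¹ * r e ∈ C' → r e = r f := by
    intro e f h
    have h1 : (QuotientGroup.mk (r f) : E ⧸ C') = QuotientGroup.mk (r e) := QuotientGroup.eq.2 h
    have h2 : (QuotientGroup.mk (r f) : E ⧸ C') = QuotientGroup.mk f := Quotient.out_eq' _
    have h3 : (QuotientGroup.mk (r e) : E ⧸ C') = QuotientGroup.mk e := Quotient.out_eq' _
    show Quotient.out (e : E ⧸ C') = Quotient.out (f : E ⧸ C')
    rw [← h3, ← h1, h2]
  let φ : E → E' := fun e => ⟨dd v (r e) * (((r e)⁻¹ * e : E) : G),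
    E'.mul_mem (hME' (hdM _ (r e).2)) (hCE' (Subgroup.mem_subgroupOf.1 (hr e)))⟩
  have hφ : Function.Injective φ := by
    intro e f hef
    have h1 : dd v (r e) * (((r e)⁻¹ * e : E) : G) = dd v (r f) * (((r f)⁻¹ * f : E) : G) := congrArg Subtype.val hef
    have h2 : (dd v (r f))⁻¹ * dd v (r e) = (((r f)⁻¹ * f : E) : G) * (((r e)⁻¹ * e : E) : G)⁻¹ := by
      rw [eq_mul_inv_iff_mul_eq, mul_assoc, h1]; group
    have h3 : (dd v (r f))⁻¹ * dd v (r e) ∈ E := by
      rw [h2]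
      exact E.mul_mem (Subtype.mem _) (E.inv_mem (Subtype.mem _))
    have h4 : (((r f)⁻¹ * r e : E) : G) ∈ C := by
      refine hmemC (Subtype.mem _) fun g hg => ?_
      exact act_eq hV hE hv (r e).2 (r f).2 hg h3
    have h5 : r e = r f := hrr e f (Subgroup.mem_subgroupOf.2 h4)
    rw [h5] at h1
    have h6 := mul_left_cancel h1
    have h7 := mul_left_cancel (Subtype.ext h6 : (r f)⁻¹ * e = (r f)⁻¹ * f)
    exact h7
  have hcard : Nat.card E ≤ Nat.card E' := Nat.card_le_card_of_injective φ hφ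
  have hcardeq : Nat.card E' = Nat.card E := le_antisymm (hmax E' hE'EA) hcard
  have hle := hmaxV E' hE'EA hcardeq
  have hsub : E ⊓ V ≤ E' ⊓ V := by
    rintro x ⟨hx, hxV⟩
    refine ⟨hCE' (hmemC hx fun g _ => ?_), hxV⟩
    exact hV.1 x hxV _ (dd_mem hv g)
  have heq : E ⊓ V = E' ⊓ V := Subgroup.eq_of_le_of_card_ge hsub hle
  apply hcon
  have : dd v e₀ ∈ E' ⊓ V := ⟨hME' (hdM e₀ he₀), dd_mem hv e₀⟩
  rw [← heq] at this
  exact this.1

/-- **Replacement.** -/
theorem exists_good [Finite G] {V : Subgroup G} [hN : V.Normal] (hV : EA V) {E₀ : Subgroup G} (h₀ : EA E₀) :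
    ∃ E : Subgroup G, EA E ∧ Nat.card E₀ ≤ Nat.card E ∧ (∀ z : G, (∀ g, z * g = g * z) → z * z = 1 → z ∈ E) ∧
      ∀ v ∈ V, ∀ e ∈ E, dd v e ∈ E := by
  classical
  have hfin : Finite (Subgroup G) := inferInstance
  let N := Nat.card G
  let w : {E : Subgroup G // EA E} → ℕ := fun E => Nat.card E.1 * (N + 1) + Nat.card (E.1 ⊓ V : Subgroup G)
  have hne : Nonempty {E : Subgroup G // EA E} := ⟨⟨E₀, h₀⟩⟩
  obtain ⟨⟨E, hE⟩, hw⟩ := Finite.exists_max w
  have hN' : ∀ E : Subgroup G, Nat.card E ≤ N := fun E => Subgroup.card_le_card_group E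
  have hmax : ∀ E' : Subgroup G, EA E' → Nat.card E' ≤ Nat.card E := by
    intro E' hE'
    by_contra h
    push Not at h
    have h1 := hw ⟨E', hE'⟩
    simp only [w] at h1
    have h2 := hN' (E ⊓ V)
    have h3 : (Nat.card E + 1) * (N + 1) ≤ Nat.card E' * (N + 1) := Nat.mul_le_mul_right _ h
    nlinarith
  have hmaxV : ∀ E' : Subgroup G, EA E' → Nat.card E' = Nat.card E →
      Nat.card (E' ⊓ V : Subgroup G) ≤ Nat.card (E ⊓ V : Subgroup G) := by
    intro E' hE' h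
    have h1 := hw ⟨E', hE'⟩
    simp only [w] at h1
    rw [h] at h1
    omega
  refine ⟨E, hE, hmax _ h₀, fun z hz hz2 => ?_, thompson hV hE hmax hmaxV⟩
  have hZ : EA (Subgroup.zpowers z) := by
    refine ⟨fun a _ b hb => ?_, fun a ha => ?_⟩
    · obtain ⟨n, rfl⟩ := Subgroup.mem_zpowers_iff.1 hb
      exact ((show Commute a z from (hz a).symm).zpow_right n)
    · obtain ⟨n, rfl⟩ := Subgroup.mem_zpowers_iff.1 ha
      rw [← (Commute.refl z).mul_zpow, hz2, one_zpow]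
  have h1 : EA (E ⊔ Subgroup.zpowers z) := hE.sup hZ fun a _ b hb => by
    obtain ⟨n, rfl⟩ := Subgroup.mem_zpowers_iff.1 hb
    exact ((show Commute a z from (hz a).symm).zpow_right n)
  have h2 : E = E ⊔ Subgroup.zpowers z := Subgroup.eq_of_le_of_card_ge le_sup_left (hmax _ h1)
  rw [h2]
  exact (le_sup_right : Subgroup.zpowers z ≤ _) (Subgroup.mem_zpowers z)

/-- elementary abelian modulo `T` -/
def EAmod (T E : Subgroup G) : Prop := (∀ a ∈ E, ∀ b ∈ E, a * b * a⁻¹ * b⁻¹ ∈ T) ∧ ∀ a ∈ E, a * a ∈ T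

theorem zpowers_comm {y a : G} (h : a * y = y * a) {b : G} (hb : b ∈ Subgroup.zpowers y) : a * b = b * a := by
  obtain ⟨n, rfl⟩ := Subgroup.mem_zpowers_iff.1 hb
  exact (show Commute a y from h).zpow_right n

theorem zpowers_sq {y : G} (h : y * y = 1) {b : G} (hb : b ∈ Subgroup.zpowers y) : b * b = 1 := by
  obtain ⟨n, rfl⟩ := Subgroup.mem_zpowers_iff.1 hb
  rw [← (Commute.refl y).mul_zpow, h, one_zpow]

/-- adjoining a central involution -/
theorem EAmod.adjoin {T E : Subgroup G} (hE : EAmod T E) {y : G} (hy : y * y = 1) (hc : ∀ a ∈ E, a * y = y * a) :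
    EAmod T (E ⊔ Subgroup.zpowers y) := by
  have hcomm : ∀ a ∈ E, ∀ b ∈ Subgroup.zpowers y, a * b = b * a := fun a ha b hb => zpowers_comm (hc a ha) hb
  have hcy : ∀ b ∈ Subgroup.zpowers y, ∀ b' ∈ Subgroup.zpowers y, b * b' = b' * b := fun b hb b' hb' =>
    zpowers_comm (zpowers_comm rfl hb).symm hb'
  refine ⟨fun x hx x' hx' => ?_, fun x hx => ?_⟩
  · obtain ⟨a, ha, b, hb, rfl⟩ := mem_sup_comm hcomm hx
    obtain ⟨a', ha', b', hb', rfl⟩ := mem_sup_comm hcomm hx'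
    have : a * b * (a' * b') * (a * b)⁻¹ * (a' * b')⁻¹ = a * a' * a⁻¹ * a'⁻¹ := by
      have e1 : a * b * (a' * b') = (b * b') * (a * a') := by
        calc a * b * (a' * b') = (b * a) * (a' * b') := by rw [hcomm a ha b hb]
          _ = b * (a * a') * b' := by group
          _ = b * (b' * (a * a')) := by rw [mul_assoc b, hcomm _ (E.mul_mem ha ha') b' hb']
          _ = _ := by group
      have e2 : (a' * b') * (a * b) = (b * b') * (a' * a) := by
        calc (a' * b') * (a * b) = (b' * a') * (a * b) := by rw [hcomm a' ha' b' hb']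
          _ = b' * (a' * a) * b := by group
          _ = b' * (b * (a' * a)) := by rw [mul_assoc b', hcomm _ (E.mul_mem ha' ha) b hb]
          _ = (b' * b) * (a' * a) := by group
          _ = _ := by rw [hcy b' hb' b hb]
      calc a * b * (a' * b') * (a * b)⁻¹ * (a' * b')⁻¹ = (a * b * (a' * b')) * ((a' * b') * (a * b))⁻¹ := by group
        _ = (b * b') * ((a * a') * (a' * a)⁻¹) * (b * b')⁻¹ := by rw [e1, e2]; group
        _ = (a * a') * (a' * a)⁻¹ := by
            have hm : (a * a') * (a' * a)⁻¹ ∈ E := E.mul_mem (E.mul_mem ha ha') (E.inv_mem (E.mul_mem ha' ha))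
            rw [← hcomm _ hm _ ((Subgroup.zpowers y).mul_mem hb hb')]
            group
        _ = _ := by group
    rw [this]
    exact hE.1 a ha a' ha'
  · obtain ⟨a, ha, b, hb, rfl⟩ := mem_sup_comm hcomm hx
    have : a * b * (a * b) = a * a := by
      calc a * b * (a * b) = a * (b * a) * b := by group
        _ = a * (a * b) * b := by rw [hcomm a ha b hb]
        _ = (a * a) * (b * b) := by group
        _ = a * a := by rw [zpowers_sq hy hb, mul_one]
    rw [this]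
    exact hE.2 a ha

/-- the order after adjoining -/
theorem card_adjoin [Finite G] {E : Subgroup G} {y : G} (hy : y ∉ E) : 2 * Nat.card E ≤ Nat.card (E ⊔ Subgroup.zpowers y : Subgroup G) := by
  have h1 : E ≤ E ⊔ Subgroup.zpowers y := le_sup_left
  obtain ⟨k, hk⟩ := Subgroup.card_dvd_of_le h1
  rw [hk, mul_comm]
  refine Nat.mul_le_mul_left _ ?_
  by_contra hlt
  have hk1 : k = 0 ∨ k = 1 := by omega
  rcases hk1 with rfl | rfl
  · rw [mul_zero] at hk
    exact Nat.card_pos.ne' hk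
  · rw [mul_one] at hk
    apply hy
    rw [Subgroup.eq_of_le_of_card_ge h1 hk.le]
    exact (le_sup_right : Subgroup.zpowers y ≤ _) (Subgroup.mem_zpowers y)

/-- **Relative replacement.** -/
theorem exists_good_rel [Finite G] {L V T E₀ : Subgroup G} (hVL : V ≤ L)
    (hTc : ∀ t ∈ T, ∀ g ∈ L, t * g = g * t) (hV : EA V) (hVn : ∀ g ∈ L, ∀ v ∈ V, g * v * g⁻¹ ∈ V)
    (hEL : E₀ ≤ L) (hTE : T ≤ E₀) (h₀ : EAmod T E₀) :
    ∃ E : Subgroup G, E ≤ L ∧ T ≤ E ∧ EAmod T E ∧ Nat.card E₀ ≤ Nat.card E ∧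
      (∀ z ∈ L, (∀ g ∈ L, z * g = g * z) → z * z = 1 → z ∈ E) ∧ ∀ v ∈ V, ∀ e ∈ E, dd v e ∈ E := by
  set T' : Subgroup L := T.subgroupOf L with hT'
  have hTn : T'.Normal := ⟨fun t ht g => by
    rw [hT', Subgroup.mem_subgroupOf] at ht ⊢
    have : ((g * t * g⁻¹ : L) : G) = (t : G) := by
      show (g : G) * t * (g : G)⁻¹ = t
      rw [← hTc t ht g g.2]; group
    rw [this]; exact ht⟩
  let π : L →* L ⧸ T' := QuotientGroup.mk' T'
  have hπ : Function.Surjective π := QuotientGroup.mk'_surjective T'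
  have hker : ∀ x : L, π x = 1 ↔ (x : G) ∈ T := fun x => by
    rw [← MonoidHom.mem_ker, QuotientGroup.ker_mk']; exact Subgroup.mem_subgroupOf
  have heq : ∀ x y : L, π x = π y ↔ ((x : G)⁻¹ * y) ∈ T := fun x y => by
    rw [← inv_mul_eq_one, ← map_inv, ← map_mul, hker]; rfl
  -- the image of `V`
  have hVn' : (V.subgroupOf L).Normal := ⟨fun v hv g => by
    rw [Subgroup.mem_subgroupOf] at hv ⊢
    exact hVn g g.2 v hv⟩
  set V' : Subgroup (L ⧸ T') := (V.subgroupOf L).map π with hV'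
  have hV'n : V'.Normal := hVn'.map π hπ
  have hV'EA : EA V' := by
    constructor
    · rintro _ ⟨a, ha, rfl⟩ _ ⟨b, hb, rfl⟩
      rw [← map_mul, ← map_mul]
      congr 1
      exact Subtype.ext (hV.1 a (Subgroup.mem_subgroupOf.1 ha) b (Subgroup.mem_subgroupOf.1 hb))
    · rintro _ ⟨a, ha, rfl⟩
      rw [← map_mul]
      have : a * a = 1 := Subtype.ext (hV.2 a (Subgroup.mem_subgroupOf.1 ha))
      rw [this, map_one]
  -- the image of `E₀`
  set F₀ : Subgroup (L ⧸ T') := (E₀.subgroupOf L).map π with hF₀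
  have hF₀EA : EA F₀ := by
    constructor
    · rintro _ ⟨a, ha, rfl⟩ _ ⟨b, hb, rfl⟩
      have h1 := h₀.1 a (Subgroup.mem_subgroupOf.1 ha) b (Subgroup.mem_subgroupOf.1 hb)
      have h2 : π (a * b * a⁻¹ * b⁻¹) = 1 := (hker _).2 h1
      rw [map_mul, map_mul, map_mul, map_inv, map_inv, mul_inv_eq_one, mul_inv_eq_iff_eq_mul] at h2
      exact h2
    · rintro _ ⟨a, ha, rfl⟩
      rw [← map_mul]
      exact (hker _).2 (h₀.2 a (Subgroup.mem_subgroupOf.1 ha))
  obtain ⟨F, hF, hFc, hFz, hFd⟩ := exists_good hV'EA hF₀EA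
  -- pull back
  have hcard : ∀ H : Subgroup G, H ≤ L → T ≤ H → Nat.card H = Nat.card ((H.subgroupOf L).map π) * Nat.card T' := by
    intro H hHL hTH
    have h1 : Nat.card H = Nat.card (H.subgroupOf L) :=
      Nat.card_congr (Subgroup.subgroupOfEquivOfLe hHL).symm.toEquiv
    have h2 : T' ≤ H.subgroupOf L := fun x hx => Subgroup.mem_subgroupOf.2 (hTH (Subgroup.mem_subgroupOf.1 hx))
    have h3 : Nat.card (H.subgroupOf L) = Nat.card ((H.subgroupOf L).map π) * Nat.card T' := by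
      set ρ : (H.subgroupOf L) →* L ⧸ T' := π.comp (H.subgroupOf L).subtype with hρ
      have h4 := Subgroup.card_eq_card_quotient_mul_card_subgroup ρ.ker
      have h5 : Nat.card ((H.subgroupOf L) ⧸ ρ.ker) = Nat.card ((H.subgroupOf L).map π) := by
        rw [Nat.card_congr (QuotientGroup.quotientKerEquivRange ρ).toEquiv, hρ, MonoidHom.range_comp,
          Subgroup.range_subtype]
      have h6 : Nat.card ρ.ker = Nat.card T' := by
        refine Nat.card_congr ⟨fun x => ⟨x.1.1, ?_⟩, fun x => ⟨⟨x.1, h2 x.2⟩, ?_⟩, fun x => rfl, fun x => rfl⟩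
        · have := x.2
          rw [MonoidHom.mem_ker] at this
          exact Subgroup.mem_subgroupOf.2 ((hker _).1 this)
        · rw [MonoidHom.mem_ker]
          exact (hker _).2 (Subgroup.mem_subgroupOf.1 x.2)
      rw [h4, h5, h6]
    rw [h1, h3]
  set E : Subgroup G := (F.comap π).map L.subtype with hE
  have hEL' : E ≤ L := by
    rintro _ ⟨x, -, rfl⟩
    exact x.2
  have hmemE : ∀ x : L, (x : G) ∈ E ↔ π x ∈ F := by
    intro x
    constructor
    · rintro ⟨y, hy, hyx⟩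
      have : y = x := Subtype.ext hyx
      rwa [← this]
    · intro hx
      exact ⟨x, hx, rfl⟩
  have hTE' : T ≤ E := by
    intro t ht
    have htL : t ∈ L := hEL (hTE ht)
    rw [show t = ((⟨t, htL⟩ : L) : G) from rfl, hmemE, (hker _).2 ht]
    exact F.one_mem
  have hEF : (E.subgroupOf L).map π = F := by
    ext x
    constructor
    · rintro ⟨y, hy, rfl⟩
      exact (hmemE y).1 (Subgroup.mem_subgroupOf.1 hy)
    · intro hx
      obtain ⟨y, rfl⟩ := hπ x
      exact ⟨y, Subgroup.mem_subgroupOf.2 ((hmemE y).2 hx), rfl⟩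
  refine ⟨E, hEL', hTE', ⟨fun a ha b hb => ?_, fun a ha => ?_⟩, ?_, fun z hz hzc hz2 => ?_, fun v hv e he => ?_⟩
  · have ha' : π ⟨a, hEL' ha⟩ ∈ F := (hmemE ⟨a, hEL' ha⟩).1 ha
    have hb' : π ⟨b, hEL' hb⟩ ∈ F := (hmemE ⟨b, hEL' hb⟩).1 hb
    have h1 := hF.1 _ ha' _ hb'
    have h2 : π (⟨a, hEL' ha⟩ * ⟨b, hEL' hb⟩ * ⟨a, hEL' ha⟩⁻¹ * ⟨b, hEL' hb⟩⁻¹) = 1 := by
      rw [map_mul, map_mul, map_mul, map_inv, map_inv, h1]; group
    exact (hker _).1 h2
  · have ha' : π ⟨a, hEL' ha⟩ ∈ F := (hmemE ⟨a, hEL' ha⟩).1 ha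
    have h1 := hF.2 _ ha'
    rw [← map_mul] at h1
    exact (hker _).1 h1
  · rw [hcard E₀ hEL hTE, hcard E hEL' hTE', hEF]
    exact Nat.mul_le_mul_right _ hFc
  · rw [show z = ((⟨z, hz⟩ : L) : G) from rfl, hmemE]
    apply hFz
    · intro g
      obtain ⟨y, rfl⟩ := hπ g
      rw [← map_mul, ← map_mul]
      congr 1
      exact Subtype.ext (hzc y y.2)
    · rw [← map_mul]
      have : (⟨z, hz⟩ * ⟨z, hz⟩ : L) = 1 := Subtype.ext hz2
      rw [this, map_one]
  · have hvL := hVL hv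
    have heL := hEL' he
    have h1 : dd v e = ((⟨e, heL⟩ * ⟨v, hvL⟩ * ⟨e, heL⟩⁻¹ * ⟨v, hvL⟩⁻¹ : L) : G) := rfl
    rw [h1, hmemE, map_mul, map_mul, map_mul, map_inv, map_inv]
    exact hFd (π ⟨v, hvL⟩) ⟨_, Subgroup.mem_subgroupOf.2 hv, rfl⟩ _ ((hmemE ⟨e, heL⟩).1 he)

end Cfsg.Agent.H332.Replace
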