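import Cfsg.Agent.H332.Words
import Cfsg.Agent.H332.Replace
import Cfsg.Agent.MonsterU.AmalPerf
import Cfsg.Agent.H848.NormFour
import Cfsg.Agent.S0358

/-!
# The upper bound in the centraliser of the standard four group

`Setup` : in a group with a chart, `y ∈ Q` over the frame class, `t ∈ Q` over a class of `W12` (`t = 1` or of type
2, given by the pair `e`), `E` a subgroup centralising `z`, `y`, `t` and elementary abelian modulo `⟨t⟩`.
`card_le` : `|E| ≤ 2 ^ 15`.
-/

set_option autoImplicit false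

open Cfsg

namespace Cfsg.Agent.H332.Upper

open Cfsg.Agent.SporadicA.Co0Mono hiding smul_add smul_sub smul_neg smul_zero
open Cfsg.Agent.SporadicA.Co1Simple
open Cfsg.Agent.SporadicStructure.LeechBase (zmod2_cases)
open Cfsg.Agent.CoOneType.SignFacts
open Cfsg.Agent.CoOneType.CoOneE (pr pr_surjective E mem_E)
open Cfsg.Agent.MonsterU.Lam2
open Cfsg.Agent.MonsterU.CoFrameL2
open Cfsg.Agent.MonsterU.Ch
open Cfsg.Agent.MonsterU.AmalGen (pre mem_pre pre_le z_mem_pre bf_W12 mem_W12_of_bf)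
open Cfsg.Agent.MonsterU.CoFrameF (toM24 toM24_eq toM24_surjective toM24_eq_one_iff exists_of_mem_F sp_mem_F conj_sign)
open Cfsg.Agent.H848.TrioU (pairL pairL_cl pairL_add pairL_zero pairL_sp sign_smul pairL_add_right mem_W1_iff_pairL
  pairL_zero_right)
open Cfsg.Agent.H848.TrioK (qf_W12)
open Cfsg.Agent.H332.GolayE
open Cfsg.Agent.H332.GolayK
open Cfsg.Agent.H332.GolayBound
open Cfsg.Agent.H332.Words
open Cfsg.Agent.H332.Replace
open Cfsg.Spor (Co1)

theorem sub_eq_add' (x y : L2) : x - y = x + y := by rw [sub_eq_add_neg, neg_eq]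

/-- A counting lemma. -/
theorem card_le_mul {A β : Type*} [Group A] (S N : Subgroup A) [Finite N] (f : A → β) (F : Set β) (hF : F.Finite)
    (hf : ∀ a ∈ S, f a ∈ F) (hfib : ∀ a ∈ S, ∀ b ∈ S, f a = f b → a⁻¹ * b ∈ N) :
    Nat.card S ≤ Nat.card N * F.ncard := by
  classical
  have hFf : Finite F := hF
  have hex : ∀ a : S, ∃ r : S, f r = f a := fun a => ⟨a, rfl⟩
  let r : F → S := fun φ => if h : ∃ a : S, f a = φ then h.choose else 1
  have hr : ∀ a : S, f (r ⟨f a, hf a a.2⟩) = f a := by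
    intro a
    have h : ∃ b : S, f b = ((⟨f a, hf a a.2⟩ : F) : β) := ⟨a, rfl⟩
    show f ((if h : ∃ b : S, f b = ((⟨f a, hf a a.2⟩ : F) : β) then h.choose else 1 : S) : A) = f a
    rw [dif_pos h]
    exact h.choose_spec
  let g : S → N × F := fun a => (⟨((r ⟨f a, hf a a.2⟩ : S) : A)⁻¹ * a, hfib _ (Subtype.mem _) _ a.2 (hr a)⟩,
    ⟨f a, hf a a.2⟩)
  have hg : Function.Injective g := by
    intro a b hab
    have h1 := congrArg Prod.snd hab
    have h2 := congrArg (fun x : N × F => (x.1 : A)) hab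
    change ((r ⟨f a, hf a a.2⟩ : S) : A)⁻¹ * a = ((r ⟨f b, hf b b.2⟩ : S) : A)⁻¹ * b at h2
    change (⟨f a, hf a a.2⟩ : F) = ⟨f b, hf b b.2⟩ at h1
    rw [h1] at h2
    exact Subtype.ext (mul_left_cancel h2)
  have := Nat.card_le_card_of_injective g hg
  rwa [Nat.card_prod] at this

variable {G : Type*} [Group G] {Q : Subgroup G} {z : G} {eta : G → L2}
  {pi : Subgroup.centralizer ({z} : Set G) →* Co1}

/-- the setup -/
structure Setup (h : Chart Q z eta pi) (y t : G) (e : Finset GolayPt) (E : Subgroup G) : Prop where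
  yQ : y ∈ Q
  eta_y : eta y = f0
  tQ : t ∈ Q
  eta_t : eta t ∈ W12
  pair_t : ∀ d : golayCode, pairL (eta t) d = ∑ p ∈ e, (d : Wd) p
  ok : Ok e
  t_one : e.card = 0 → t = 1
  Ez : ∀ a ∈ E, a * z = z * a
  Ey : ∀ a ∈ E, a * y = y * a
  Et : ∀ a ∈ E, a * t = t * a
  tE : t ∈ E
  mod : EAmod (Subgroup.zpowers t) E

namespace Setup

variable {h : Chart Q z eta pi} {y t : G} {e : Finset GolayPt} {E' : Subgroup G}

theorem t_sq (s : Setup h y t e E') : t * t = 1 := (h.sq_one s.tQ).2 (qf_W12 s.eta_t)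

theorem mem_T (s : Setup h y t e E') {x : G} : x ∈ Subgroup.zpowers t ↔ x = 1 ∨ x = t := by
  constructor
  · intro hx
    obtain ⟨n, rfl⟩ := Subgroup.mem_zpowers_iff.1 hx
    have h2 : t ^ (2 : ℤ) = 1 := by rw [zpow_two, s.t_sq]
    rcases Int.even_or_odd' n with ⟨k, rfl | rfl⟩
    · left; rw [zpow_mul, h2, one_zpow]
    · right; rw [zpow_add, zpow_mul, h2, one_zpow, one_mul, zpow_one]
  · rintro (rfl | rfl)
    · exact Subgroup.one_mem _
    · exact Subgroup.mem_zpowers _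

/-- `t` is not over `W1` unless it is trivial -/
theorem t_not_W1 (s : Setup h y t e E') (h1 : eta t ∈ W1) : t = 1 := by
  apply s.t_one
  rcases s.ok with h0 | h2
  · exact h0
  · exfalso
    obtain ⟨i, j, hij, rfl⟩ := Finset.card_eq_two.1 h2
    have h3 := (mem_W1_iff_pairL s.eta_t).1 h1
    obtain ⟨w, hw, hv⟩ := Cfsg.Agent.SporadicStructure.GolayInterp.exists_word_interp ({i, j} : Finset GolayPt)
      (by rw [h2]; norm_num) (fun r => if r = i then 1 else 0)
    have h4 := h3 ⟨w, hw⟩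
    rw [s.pair_t, Finset.sum_pair hij] at h4
    change w i + w j = 0 at h4
    rw [hv i (by simp), hv j (by simp), if_pos rfl, if_neg hij.symm, add_zero] at h4
    exact absurd h4 (by decide)

/-- elements of `⟨t⟩` over `W1` are trivial -/
theorem eq_one_of_T (s : Setup h y t e E') {x : G} (hx : x ∈ Subgroup.zpowers t) (h1 : eta x ∈ W1) : x = 1 := by
  rcases s.mem_T.1 hx with rfl | rfl
  · rfl
  · exact s.t_not_W1 h1

theorem mem_C (s : Setup h y t e E') {a : G} (ha : a ∈ E') : a ∈ Subgroup.centralizer ({z} : Set G) :=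
  Subgroup.mem_centralizer_singleton_iff.2 (s.Ez a ha)

/-- the map to `Co1` -/
noncomputable def P (s : Setup h y t e E') : E' →* Co1 where
  toFun a := pi ⟨a, s.mem_C a.2⟩
  map_one' := map_one pi
  map_mul' a b := map_mul pi ⟨a, s.mem_C a.2⟩ ⟨b, s.mem_C b.2⟩

theorem conj_eta (s : Setup h y t e E') (a : E') {q : G} (hq : q ∈ Q) : eta ((a : G) * q * (a : G)⁻¹) = s.P a • eta q :=
  h.eta_conj ⟨a, s.mem_C a.2⟩ q hq

theorem conj_Q (s : Setup h y t e E') (a : E') {q : G} (hq : q ∈ Q) : (a : G) * q * (a : G)⁻¹ ∈ Q :=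
  h.large.conj_mem a (s.Ez a a.2) q hq

theorem P_mem_F (s : Setup h y t e E') (a : E') : s.P a ∈ F := by
  rw [mem_F_iff, ← s.eta_y, ← s.conj_eta a s.yQ, s.Ey a a.2, mul_inv_cancel_right]

theorem P_t (s : Setup h y t e E') (a : E') : s.P a • eta t = eta t := by
  rw [← s.conj_eta a s.tQ, s.Et a a.2, mul_inv_cancel_right]

theorem P_eq_one (s : Setup h y t e E') (a : E') : s.P a = 1 ↔ (a : G) ∈ Q := h.pi_eq_one ⟨a, s.mem_C a.2⟩

/-- the map to `M24` -/
noncomputable def R (s : Setup h y t e E') : E' →* M24 :=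
  toM24.comp (s.P.codRestrict F s.P_mem_F)

theorem R_spec (s : Setup h y t e E') (a : E') : ∃ c, s.P a = pr (signCo0 c * permCo0 (s.R a)) := by
  obtain ⟨c, σ, h1⟩ := exists_of_mem_F (s.P_mem_F a)
  have h2 : s.R a = σ := toM24_eq (x := ⟨s.P a, s.P_mem_F a⟩) h1
  exact ⟨c, by rw [h2]; exact h1⟩

theorem R_eq_one (s : Setup h y t e E') (a : E') : s.R a = 1 ↔ s.P a ∈ E := toM24_eq_one_iff ⟨s.P a, s.P_mem_F a⟩

/-- the group of permutations -/
noncomputable def K (s : Setup h y t e E') : Subgroup M24 := s.R.range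

/-- the words of the sign changes -/
def C (s : Setup h y t e E') : Submodule (ZMod 2) Wd where
  carrier := {c | ∃ hc : c ∈ golayCode, ∃ a : E', s.P a = pr (signCo0 ⟨c, hc⟩)}
  zero_mem' := ⟨golayCode.zero_mem, 1, by
    rw [map_one]
    have : (⟨0, golayCode.zero_mem⟩ : golayCode) = 0 := rfl
    rw [this, signCo0_zero, map_one]⟩
  add_mem' := by
    rintro c d ⟨hc, a, ha⟩ ⟨hd, b, hb⟩
    refine ⟨golayCode.add_mem hc hd, a * b, ?_⟩
    have : (⟨c + d, golayCode.add_mem hc hd⟩ : golayCode) = ⟨c, hc⟩ + ⟨d, hd⟩ := rfl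
    rw [map_mul, ha, hb, this, signCo0_add, map_mul]
  smul_mem' := by
    rintro r c ⟨hc, a, ha⟩
    rcases zmod2_cases r with rfl | rfl
    · rw [zero_smul]
      exact ⟨golayCode.zero_mem, 1, by
        rw [map_one]
        have : (⟨0, golayCode.zero_mem⟩ : golayCode) = 0 := rfl
        rw [this, signCo0_zero, map_one]⟩
    · rw [one_smul]
      exact ⟨hc, a, ha⟩

/-- the words of the elements of `Q` -/
def H (_s : Setup h y t e E') : Submodule (ZMod 2) Wd where
  carrier := {g | ∃ q ∈ E', q ∈ Q ∧ Word (eta q) g}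
  zero_mem' := ⟨1, E'.one_mem, Q.one_mem, by rw [h.eta_one]; exact word_zero⟩
  add_mem' := by
    rintro c d ⟨a, ha, haQ, hac⟩ ⟨b, hb, hbQ, hbd⟩
    exact ⟨a * b, E'.mul_mem ha hb, Q.mul_mem haQ hbQ, by rw [h.eta_mul a haQ b hbQ]; exact hac.add hbd⟩
  smul_mem' := by
    rintro r c ⟨a, ha, haQ, hac⟩
    rcases zmod2_cases r with rfl | rfl
    · rw [zero_smul]
      exact ⟨1, E'.one_mem, Q.one_mem, by rw [h.eta_one]; exact word_zero⟩
    · rw [one_smul]
      exact ⟨a, ha, haQ, hac⟩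

/-- the commutators -/
def I (s : Setup h y t e E') : Submodule (ZMod 2) Wd :=
  Submodule.span (ZMod 2) {w | ∃ σ ∈ s.K, ∃ O ∈ Ge e, w = O + mv σ O}

theorem mem_C' (s : Setup h y t e E') {c : Wd} : c ∈ s.C ↔ ∃ hc : c ∈ golayCode, ∃ a : E', s.P a = pr (signCo0 ⟨c, hc⟩) :=
  Iff.rfl

theorem mem_H (s : Setup h y t e E') {g : Wd} : g ∈ s.H ↔ ∃ q ∈ E', q ∈ Q ∧ Word (eta q) g := Iff.rfl

/-- commutators with elements of `Q` -/
theorem comm_Q (s : Setup h y t e E') (a : E') {q : G} (hq : q ∈ E') (hqQ : q ∈ Q) :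
    s.P a • eta q + eta q = 0 ∨ s.P a • eta q + eta q = eta t := by
  have h1 := s.mod.1 a a.2 q hq
  have h2 : eta ((a : G) * q * (a : G)⁻¹ * q⁻¹) = s.P a • eta q + eta q := by
    rw [h.eta_mul _ (s.conj_Q a hqQ) _ (Q.inv_mem hqQ), h.eta_inv hqQ, s.conj_eta a hqQ]
  rw [← h2]
  rcases s.mem_T.1 h1 with h3 | h3
  · left; rw [h3, h.eta_one]
  · right; rw [h3]


/-- elements of `E' ∩ Q` commute -/
theorem comm_QQ (s : Setup h y t e E') {q r : G} (hq : q ∈ E') (hqQ : q ∈ Q) (hr : r ∈ E') (hrQ : r ∈ Q) :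
    bf (eta q) (eta r) = 0 := by
  rw [← h.comm_iff hqQ hrQ]
  have h1 := s.mod.1 q hq r hr
  rcases zmod2_cases (bf (eta q) (eta r)) with h2 | h2
  · exact (h.comm_iff hqQ hrQ).2 h2
  · have h3 := (h.comm_z_iff hqQ hrQ).2 h2
    have h4 : q * r * q⁻¹ * r⁻¹ = z := by
      rw [h3]
      have hz := h.large.comm_z _ (Q.mul_mem hrQ hqQ)
      have : r * q * z * q⁻¹ * r⁻¹ = z := by
        rw [mul_assoc (r * q) z, show z * q⁻¹ = q⁻¹ * z from ?_]
        · have hz2 := h.large.comm_z _ (Q.inv_mem hrQ)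
          calc r * q * (q⁻¹ * z) * r⁻¹ = r * (z * r⁻¹) := by group
            _ = r * (r⁻¹ * z) := by rw [← hz2]
            _ = z := by group
        · exact (h.large.comm_z _ (Q.inv_mem hqQ)).symm
      exact this
    rw [h4] at h1
    have h5 := s.eq_one_of_T h1 (by rw [h.eta_z]; exact W1.zero_mem)
    exact absurd h5 h.large.z_ne

theorem Q_W23 (s : Setup h y t e E') {q : G} (hq : q ∈ E') (hqQ : q ∈ Q) : eta q ∈ W23 := by
  rw [mem_W23_iff_bf, ← s.eta_y, ← h.comm_iff hqQ s.yQ]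
  exact s.Ey q hq

theorem K_sq (s : Setup h y t e E') {σ : M24} (hσ : σ ∈ s.K) : σ * σ = 1 := by
  obtain ⟨a, rfl⟩ := hσ
  rw [← map_mul, R_eq_one, (s.P_eq_one (a * a)).2]
  · exact E.one_mem
  · rcases s.mem_T.1 (s.mod.2 a a.2) with h1 | h1
    · show (a : G) * a ∈ Q
      rw [h1]; exact Q.one_mem
    · show (a : G) * a ∈ Q
      rw [h1]; exact s.tQ

theorem inv_K (s : Setup h y t e E') {σ : M24} (hσ : σ ∈ s.K) : σ⁻¹ = σ :=
  inv_eq_of_mul_eq_one_left (s.K_sq hσ)

/-- the pairing with the words of the complement of `e` -/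
theorem pair_t_perm (s : Setup h y t e E') {σ : M24} (hσ : σ ∈ s.K) {d : Wd} (hd : d ∈ golayCode) :
    ∑ p ∈ e, mv σ d p = ∑ p ∈ e, d p := by
  obtain ⟨a, rfl⟩ := hσ
  obtain ⟨c, hc⟩ := s.R_spec a
  have h1 := pairL_sp s.eta_t c (s.R a) ⟨mv (s.R a) d, mv_mem _ hd⟩
  rw [← hc, s.P_t, s.pair_t, s.pair_t] at h1
  rw [← show ∑ p ∈ e, (wordPerm (s.R a) ⟨mv (s.R a) d, mv_mem _ hd⟩ : Wd) p = ∑ p ∈ e, mv (s.R a) d p from h1]
  refine Finset.sum_congr rfl fun p _ => ?_
  rw [wordPerm_apply]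
  show d (((s.R a : M24) : Equiv.Perm GolayPt) (((s.R a : M24) : Equiv.Perm GolayPt).symm p)) = d p
  rw [Equiv.apply_symm_apply]

open Classical in
theorem inv_e (s : Setup h y t e E') {σ : M24} (hσ : σ ∈ s.K) (p : GolayPt) :
    (σ : Equiv.Perm GolayPt) p ∈ e ↔ p ∈ e := by
  -- the indicator of `e` plus its image is a word
  have hsum : ∀ w d : Wd, ∑ q, (if q ∈ e then (1 : ZMod 2) else 0) * d q = ∑ q ∈ e, d q := by
    intro w d
    rw [← Finset.sum_filter_add_sum_filter_not Finset.univ (fun q => q ∈ e), Finset.filter_mem_eq_inter,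
      Finset.univ_inter]
    have h1 : ∑ q ∈ Finset.univ.filter (fun q => ¬ q ∈ e), (if q ∈ e then (1 : ZMod 2) else 0) * d q = 0 := by
      refine Finset.sum_eq_zero fun q hq => ?_
      rw [if_neg (Finset.mem_filter.1 hq).2, zero_mul]
    rw [h1, add_zero]
    exact Finset.sum_congr rfl fun q hq => by rw [if_pos hq, one_mul]
  set w : Wd := ind1 e + mv σ (ind1 e) with hw
  have hmem : w ∈ golayCode := by
    apply Cfsg.Agent.SporadicStructure.GolayInterp.mem_golayCode_of_orthogonal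
    intro d hd
    have h1 : ∀ q, w q * d q = (if q ∈ e then (1 : ZMod 2) else 0) * d q +
        (if (σ : Equiv.Perm GolayPt) q ∈ e then (1 : ZMod 2) else 0) * d q := fun q => by
      rw [hw, Pi.add_apply, add_mul]; rfl
    rw [Finset.sum_congr rfl fun q _ => h1 q, Finset.sum_add_distrib, hsum w]
    have h2 : ∑ q, (if (σ : Equiv.Perm GolayPt) q ∈ e then (1 : ZMod 2) else 0) * d q =
        ∑ q, (if q ∈ e then (1 : ZMod 2) else 0) * mv σ⁻¹ d q := by
      rw [← Equiv.sum_comp (σ : Equiv.Perm GolayPt) (fun q => (if q ∈ e then (1 : ZMod 2) else 0) * mv σ⁻¹ d q)]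
      refine Finset.sum_congr rfl fun q _ => ?_
      have : mv σ⁻¹ d ((σ : Equiv.Perm GolayPt) q) = d q := by
        show d ((((σ⁻¹ : M24)) : Equiv.Perm GolayPt) ((σ : Equiv.Perm GolayPt) q)) = d q
        congr 1
        exact (σ : Equiv.Perm GolayPt).symm_apply_apply q
      rw [this]
    rw [h2, hsum w, s.inv_K hσ, s.pair_t_perm hσ hd]
    have key : ∀ a : ZMod 2, a + a = 0 := by decide
    exact key _
  have h0 : w = 0 := by
    by_contra hne
    have h8 := Cfsg.Agent.SporadicA.GolayWeight.eight_le_weight hmem hne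
    have hsub : support₂ w ⊆ e ∪ e.map (σ : Equiv.Perm GolayPt).symm.toEmbedding := by
      intro q hq
      rw [support₂, Finset.mem_filter] at hq
      by_contra hq'
      rw [Finset.mem_union, not_or, Finset.mem_map] at hq'
      apply hq.2
      show (if q ∈ e then (1 : ZMod 2) else 0) + (if (σ : Equiv.Perm GolayPt) q ∈ e then (1 : ZMod 2) else 0) = 0
      rw [if_neg hq'.1, if_neg, add_zero]
      intro h9
      exact hq'.2 ⟨_, h9, Equiv.symm_apply_apply _ _⟩
    have h9 := (Finset.card_le_card hsub).trans (Finset.card_union_le _ _)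
    rw [Finset.card_map] at h9
    rcases s.ok with h3 | h3 <;> omega
  have h1 := congrFun h0 p
  change (if p ∈ e then (1 : ZMod 2) else 0) + (if (σ : Equiv.Perm GolayPt) p ∈ e then (1 : ZMod 2) else 0) = 0 at h1
  by_cases h2 : p ∈ e <;> by_cases h3 : (σ : Equiv.Perm GolayPt) p ∈ e
  · exact ⟨fun _ => h2, fun _ => h3⟩
  · rw [if_pos h2, if_neg h3, add_zero] at h1
    exact absurd h1 (by decide)
  · rw [if_neg h2, if_pos h3, zero_add] at h1
    exact absurd h1 (by decide)
  · exact ⟨fun h4 => absurd h4 h3, fun h4 => absurd h4 h2⟩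

theorem good (s : Setup h y t e E') : Good e s.K :=
  ⟨s.ok, fun _ hσ => s.K_sq hσ, fun _ hσ p => s.inv_e hσ p⟩

/-- the form with a class of `Ge e` -/
theorem bf_t (s : Setup h y t e E') {x : L2} {O : Wd} (hO : O ∈ Ge e) (hx : Word x O) : bf (eta t) x = 0 := by
  rw [bf_word s.eta_t hx, s.pair_t]
  exact hO.2

/-- moving an element of `E'` to the other side of the form -/
theorem bf_move (s : Setup h y t e E') (a : E') (x x' : L2) : bf x (s.P a • x') = bf (s.P a⁻¹ • x) x' := by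
  rw [← bf_smul1 (s.P a) (s.P a⁻¹ • x) x', map_inv, smul_inv_smul]

theorem quad (s : Setup h y t e E') (hdd : ∀ v ∈ pre h W12, ∀ a ∈ E', dd v a ∈ E') : Quad e s.K := by
  rintro _ ⟨a, rfl⟩ _ ⟨b, rfl⟩ O hO
  obtain ⟨x, hx⟩ := exists_class hO.1
  obtain ⟨c, hc⟩ := s.R_spec a
  obtain ⟨d, hd⟩ := s.R_spec b
  have ha := (hx.sp c (s.R a))
  rw [← hc, s.inv_K ⟨a, rfl⟩] at ha
  have hb := (hx.sp d (s.R b))
  rw [← hd, s.inv_K ⟨b, rfl⟩] at hb
  have hab := ha.sp d (s.R b)
  rw [← hd, s.inv_K ⟨b, rfl⟩] at hab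
  -- the class is orthogonal to `W12`
  have horth : ∀ u ∈ W12, bf u (x + s.P a • x + s.P b • x + s.P b • (s.P a • x)) = 0 := by
    intro u hu
    obtain ⟨q, hq, rfl⟩ := h.eta_surj u
    have hqp : q ∈ pre h W12 := ⟨hq, hu⟩
    -- the commutator of `q` with `b⁻¹` is in `E'`
    have h1 : dd q (b⁻¹ : E') ∈ E' := hdd q hqp _ (Subtype.mem _)
    have h1Q : dd q (b⁻¹ : E') ∈ Q := Q.mul_mem (s.conj_Q b⁻¹ hq) (Q.inv_mem hq)
    have h2 : eta (dd q (b⁻¹ : E')) = s.P b⁻¹ • eta q + eta q := by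
      show eta (((b⁻¹ : E') : G) * q * ((b⁻¹ : E') : G)⁻¹ * q⁻¹) = _
      rw [h.eta_mul _ (s.conj_Q b⁻¹ hq) _ (Q.inv_mem hq), h.eta_inv hq, s.conj_eta b⁻¹ hq]
    have h3 := s.comm_Q a⁻¹ h1 h1Q
    have h4 : bf (s.P a⁻¹ • eta (dd q (b⁻¹ : E')) + eta (dd q (b⁻¹ : E'))) x = 0 := by
      rcases h3 with h5 | h5
      · rw [h5, bf_zero_left]
      · rw [h5, s.bf_t hO hx]
    rw [h2] at h4
    rw [bf_add_right, bf_add_right, bf_add_right, s.bf_move b, s.bf_move a, s.bf_move b, s.bf_move a]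
    rw [smul_add, bf_add_left, bf_add_left, bf_add_left] at h4
    generalize bf (s.P a⁻¹ • s.P b⁻¹ • eta q) x = x1 at *
    generalize bf (s.P a⁻¹ • eta q) x = x2 at *
    generalize bf (s.P b⁻¹ • eta q) x = x3 at *
    generalize bf (eta q) x = x4 at *
    revert x1 x2 x3 x4
    decide
  have hmem : x + s.P a • x + s.P b • x + s.P b • (s.P a • x) ∈ W12 :=
    mem_W12_of_bf fun u hu => by rw [bf_comm]; exact horth u hu
  have hword := ((hx.add ha).add hb).add hab
  rw [hword.mem_W12_iff] at hmem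
  rcases hmem with h1 | h1
  · left
    intro q
    exact congrFun h1 q
  · right
    intro q
    exact congrFun h1 q

theorem C_le (s : Setup h y t e E') : s.C ≤ Ge e := by
  rintro c ⟨hc, a, ha⟩
  refine ⟨hc, ?_⟩
  have h1 := s.P_t a
  rw [ha, sign_smul s.eta_t] at h1
  rw [← s.pair_t ⟨c, hc⟩]
  by_contra h2
  rw [if_neg h2] at h1
  exact f0_ne (left_eq_add.1 h1.symm)

theorem H_le (s : Setup h y t e E') : s.H ≤ Ge e := by
  rintro g ⟨q, hq, hqQ, hg⟩
  refine ⟨hg.mem, ?_⟩
  rw [← s.pair_t ⟨g, hg.mem⟩, ← bf_word s.eta_t hg, ← h.comm_iff s.tQ hqQ]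
  exact (s.Et q hq).symm

theorem sign_one : pr (signCo0 allOne) = 1 := Cfsg.Agent.MonsterU.CoFrameF.pr_eq_one.2 (Or.inr rfl)

theorem one_C (s : Setup h y t e E') : (1 : Wd) ∈ s.C := ⟨one_mem_code, 1, by
  rw [map_one]
  exact sign_one.symm⟩

theorem one_H (s : Setup h y t e E') : (1 : Wd) ∈ s.H := ⟨1, E'.one_mem, Q.one_mem, by
  rw [h.eta_one]; exact word_one⟩

theorem prod (s : Setup h y t e E') {c g : Wd} (hc : c ∈ s.C) (hg : g ∈ s.H) :
    ∃ k ∈ golayCode, (c * g = k ∨ c * g = k + ind1 e) := by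
  classical
  obtain ⟨hcG, a, ha⟩ := hc
  obtain ⟨q, hq, hqQ, hqg⟩ := hg
  have h1 := s.comm_Q a hq hqQ
  rw [ha, ← sub_eq_add'] at h1
  have h2 := pair_sign_class hqg ⟨c, hcG⟩
  rcases h1 with h3 | h3
  · refine ⟨c * g, ?_, Or.inl rfl⟩
    apply Cfsg.Agent.SporadicStructure.GolayInterp.mem_golayCode_of_orthogonal
    intro d hd
    have h4 := h2 ⟨d, hd⟩
    rw [h3, pairL_zero] at h4
    rw [h4]
    refine Finset.sum_congr rfl fun i _ => ?_
    rw [Pi.mul_apply, mul_comm (c i)]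
  · refine ⟨c * g + ind1 e, ?_, Or.inr ?_⟩
    · apply Cfsg.Agent.SporadicStructure.GolayInterp.mem_golayCode_of_orthogonal
      intro d hd
      have h4 := h2 ⟨d, hd⟩
      rw [h3, s.pair_t] at h4
      have h5 : ∀ i, (c * g + ind1 e) i * d i = g i * c i * d i + (if i ∈ e then d i else 0) := by
        intro i
        rw [Pi.add_apply, Pi.mul_apply, ind1, add_mul, mul_comm (c i)]
        split_ifs
        · rw [one_mul]
        · rw [zero_mul]
      rw [Finset.sum_congr rfl fun i _ => h5 i, Finset.sum_add_distrib, Finset.sum_ite_mem, Finset.univ_inter]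
      change ∑ p ∈ e, d p = ∑ i, g i * c i * d i at h4
      rw [← h4]
      have key : ∀ a : ZMod 2, a + a = 0 := by decide
      exact key _
    · rw [add_assoc, add_self', add_zero]

theorem data (s : Setup h y t e E') (hdd : ∀ v ∈ pre h W12, ∀ a ∈ E', dd v a ∈ E') : Data e s.K s.C s.H s.I :=
  { good := s.good
    quad := s.quad hdd
    C_le := s.C_le
    H_le := s.H_le
    one_C := s.one_C
    one_H := s.one_H
    prod := fun _ hc _ hg => s.prod hc hg
    comm := fun σ hσ O hO => Submodule.subset_span ⟨σ, hσ, O, hO, rfl⟩ }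

/-! ### the orthogonality -/

/-- the elements of `E'` over `W12` are orthogonal to all words -/
theorem orth (s : Setup h y t e E') {q : G} (hq : q ∈ E') (hq12 : q ∈ pre h W12) {w : Wd} (hw : w ∈ s.C ⊔ s.H ⊔ s.I)
    (hwG : w ∈ golayCode) : pairL (eta q) ⟨w, hwG⟩ = 0 := by
  -- the words orthogonal to `q`
  let X : Submodule (ZMod 2) Wd :=
    { carrier := {w | ∃ hw : w ∈ golayCode, pairL (eta q) ⟨w, hw⟩ = 0}
      zero_mem' := ⟨golayCode.zero_mem, pairL_zero_right hq12.2⟩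
      add_mem' := by
        rintro a b ⟨ha, ha'⟩ ⟨hb, hb'⟩
        refine ⟨golayCode.add_mem ha hb, ?_⟩
        have := pairL_add_right hq12.2 ⟨a, ha⟩ ⟨b, hb⟩
        rw [ha', hb', add_zero] at this
        exact this
      smul_mem' := by
        rintro r a ⟨ha, ha'⟩
        rcases zmod2_cases r with rfl | rfl
        · rw [zero_smul]
          exact ⟨golayCode.zero_mem, pairL_zero_right hq12.2⟩
        · rw [one_smul]
          exact ⟨ha, ha'⟩ }
  have hCX : s.C ≤ X := by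
    rintro c ⟨hc, a, ha⟩
    refine ⟨hc, ?_⟩
    have h1 := s.mod.1 a a.2 q hq
    have h2 : eta ((a : G) * q * (a : G)⁻¹ * q⁻¹) = s.P a • eta q + eta q := by
      rw [h.eta_mul _ (s.conj_Q a hq12.1) _ (Q.inv_mem hq12.1), h.eta_inv hq12.1, s.conj_eta a hq12.1]
    have h3 : s.P a • eta q = eta q + if pairL (eta q) ⟨c, hc⟩ = 0 then 0 else f0 := by
      rw [ha, sign_smul hq12.2]
    have h4 : s.P a • eta q + eta q ∈ W1 := by
      rw [h3]
      split_ifs
      · rw [add_zero, add_self]; exact W1.zero_mem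
      · rw [add_comm, ← add_assoc, add_self, zero_add]; exact f0_mem_W1
    have h5 := s.eq_one_of_T h1 (by rw [h2]; exact h4)
    rw [h5, h.eta_one, h3] at h2
    by_contra h6
    rw [if_neg h6, add_comm, ← add_assoc, add_self, zero_add] at h2
    exact f0_ne h2.symm
  have hHX : s.H ≤ X := by
    rintro g ⟨r, hr, hrQ, hg⟩
    refine ⟨hg.mem, ?_⟩
    rw [← bf_word hq12.2 hg]
    exact s.comm_QQ hq hq12.1 hr hrQ
  have hIX : s.I ≤ X := by
    rw [I, Submodule.span_le]
    rintro _ ⟨σ, ⟨a, rfl⟩, O, hO, rfl⟩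
    refine ⟨golayCode.add_mem hO.1 (mv_mem _ hO.1), ?_⟩
    obtain ⟨x, hx⟩ := exists_class hO.1
    obtain ⟨c, hc⟩ := s.R_spec a
    have ha := hx.sp c (s.R a)
    rw [← hc, s.inv_K ⟨a, rfl⟩] at ha
    rw [← bf_word hq12.2 (hx.add ha), bf_add_right, s.bf_move a]
    have h1 := s.comm_Q a⁻¹ hq hq12.1
    have h2 : bf (s.P a⁻¹ • eta q + eta q) x = 0 := by
      rcases h1 with h5 | h5
      · rw [h5, bf_zero_left]
      · rw [h5, s.bf_t hO hx]
    rw [bf_add_left] at h2
    rw [add_comm]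
    exact h2
  obtain ⟨_, h1⟩ := (sup_le (sup_le hCX hHX) hIX) hw
  exact h1

/-! ### counting -/

/-- half of the words vanish at a point -/
theorem half (C : Submodule (ZMod 2) Wd) (h1 : (1 : Wd) ∈ C) :
    2 * ({c : Wd | c ∈ C ∧ c none = 0} : Set Wd).ncard ≤ Nat.card C := by
  have hfin : Finite ({c : Wd | c ∈ C ∧ c none = 0} : Set Wd) := inferInstance
  let f : ({c : Wd | c ∈ C ∧ c none = 0} : Set Wd) × ZMod 2 → C := fun x =>
    ⟨x.1.1 + x.2 • (1 : Wd), C.add_mem x.1.2.1 (C.smul_mem _ h1)⟩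
  have hf : Function.Injective f := by
    rintro ⟨⟨c, hc, hc0⟩, r⟩ ⟨⟨d, hd, hd0⟩, r'⟩ hcd
    have e1 : c + r • (1 : Wd) = d + r' • (1 : Wd) := congrArg Subtype.val hcd
    have e2 := congrFun e1 none
    rw [Pi.add_apply, Pi.add_apply, hc0, hd0, zero_add, zero_add, Pi.smul_apply, Pi.smul_apply, Pi.one_apply,
      smul_eq_mul, smul_eq_mul, mul_one, mul_one] at e2
    subst e2
    have e3 := add_right_cancel e1
    subst e3
    rfl
  have := Nat.card_le_card_of_injective f hf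
  rw [Nat.card_prod, Nat.card_zmod, mul_comm] at this
  exact this

theorem card_sub (C : Submodule (ZMod 2) Wd) : Nat.card C = 2 ^ Module.finrank (ZMod 2) C := by
  have h : Nat.card C = Nat.card (ZMod 2) ^ Module.finrank (ZMod 2) C := Module.natCard_eq_pow_finrank
  rwa [Nat.card_zmod] at h

theorem I_le (s : Setup h y t e E') : s.I ≤ golayCode := by
  rw [I, Submodule.span_le]
  rintro _ ⟨σ, -, O, hO, rfl⟩
  exact golayCode.add_mem hO.1 (mv_mem _ hO.1)

/-- the functional of a class -/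
noncomputable def fn {x : L2} (hx : x ∈ W12) : Module.Dual (ZMod 2) golayCode :=
  AddMonoidHom.toZModLinearMap 2
    { toFun := fun c => pairL x c
      map_zero' := pairL_zero_right hx
      map_add' := fun c d => pairL_add_right hx c d }

theorem fn_apply {x : L2} (hx : x ∈ W12) (c : golayCode) : fn hx c = pairL x c := rfl

open Classical in
/-- **The upper bound.** -/
theorem card_le [Finite G] (s : Setup h y t e E') (hdd : ∀ v ∈ pre h W12, ∀ a ∈ E', dd v a ∈ E') : Nat.card E' ≤ 2 ^ 15 := by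
  obtain ⟨k, hk, hb⟩ := (s.data hdd).bound
  -- the permutations
  have c1 : Nat.card E' = Nat.card s.R.ker * Nat.card s.K := by
    have := s.R.ker.card_mul_index
    rw [Subgroup.index_ker] at this
    exact this.symm
  -- the sign changes
  set N1 : Subgroup E' := Q.subgroupOf E' with hN1
  set N2 : Subgroup E' := (pre h W12).subgroupOf E' with hN2
  set N3 : Subgroup E' := (pre h W1).subgroupOf E' with hN3
  set F1 : Set Wd := {c : Wd | c ∈ s.C ∧ c none = 0} with hF1
  set F2 : Set Wd := {c : Wd | c ∈ s.H ∧ c none = 0} with hF2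
  have c2 : Nat.card s.R.ker ≤ Nat.card N1 * F1.ncard := by
    have hex : ∀ a ∈ s.R.ker, ∃ c : Wd, ∃ hc : c ∈ golayCode, s.P a = pr (signCo0 ⟨c, hc⟩) ∧ c none = 0 := by
      intro a ha
      rw [MonoidHom.mem_ker, R_eq_one] at ha
      obtain ⟨⟨c, hc⟩, hca⟩ := ha
      rcases zmod2_cases (c none) with h0 | h0
      · exact ⟨c, hc, hca, h0⟩
      · refine ⟨c + 1, golayCode.add_mem hc one_mem_code, ?_, ?_⟩
        · have : (⟨c + 1, golayCode.add_mem hc one_mem_code⟩ : golayCode) = ⟨c, hc⟩ + allOne := rfl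
          rw [this, signCo0_add, map_mul, sign_one, mul_one]
          exact hca
        · rw [Pi.add_apply, h0]
          show (1 : ZMod 2) + 1 = 0
          decide
    refine card_le_mul s.R.ker N1 (fun a => if ha : a ∈ s.R.ker then (hex a ha).choose else 0) F1
      (Set.toFinite _) (fun a ha => ?_) (fun a ha b hb hab => ?_)
    · simp only [dif_pos ha]
      obtain ⟨hc, h1, h2⟩ := (hex a ha).choose_spec
      exact ⟨⟨hc, a, h1⟩, h2⟩
    · simp only [dif_pos ha, dif_pos hb] at hab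
      obtain ⟨hc, h1, -⟩ := (hex a ha).choose_spec
      obtain ⟨hd, h2, -⟩ := (hex b hb).choose_spec
      have h3 : s.P a = s.P b := by
        rw [h1, h2]
        congr 2
        exact Subtype.ext hab
      rw [hN1, Subgroup.mem_subgroupOf, ← s.P_eq_one, map_mul, map_inv, h3, inv_mul_cancel]
  have c3 : Nat.card N1 ≤ Nat.card N2 * F2.ncard := by
    have hex : ∀ a ∈ N1, ∃ g : Wd, Word (eta a) g ∧ g none = 0 := by
      intro a ha
      obtain ⟨g, hg⟩ := exists_word (s.Q_W23 a.2 (Subgroup.mem_subgroupOf.1 ha))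
      rcases zmod2_cases (g none) with h0 | h0
      · exact ⟨g, hg, h0⟩
      · refine ⟨g + 1, hg.compl, ?_⟩
        rw [Pi.add_apply, h0]
        show (1 : ZMod 2) + 1 = 0
        decide
    refine card_le_mul N1 N2 (fun a => if ha : a ∈ N1 then (hex a ha).choose else 0) F2
      (Set.toFinite _) (fun a ha => ?_) (fun a ha b hb hab => ?_)
    · simp only [dif_pos ha]
      obtain ⟨h1, h2⟩ := (hex a ha).choose_spec
      exact ⟨⟨a, a.2, Subgroup.mem_subgroupOf.1 ha, h1⟩, h2⟩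
    · simp only [dif_pos ha, dif_pos hb] at hab
      obtain ⟨h1, -⟩ := (hex a ha).choose_spec
      obtain ⟨h2, -⟩ := (hex b hb).choose_spec
      have ha' : (a : G) ∈ Q := Subgroup.mem_subgroupOf.1 ha
      have hb' : (b : G) ∈ Q := Subgroup.mem_subgroupOf.1 hb
      rw [hN2, Subgroup.mem_subgroupOf]
      refine ⟨Q.mul_mem (Q.inv_mem ha') hb', ?_⟩
      show eta ((a : G)⁻¹ * b) ∈ W12
      rw [h.eta_mul _ (Q.inv_mem ha') _ hb', h.eta_inv ha']
      rw [hab] at h1
      have h3 := h1.add h2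
      rw [add_self'] at h3
      exact h3.mem_W12_iff.2 (Or.inl rfl)
  -- the functionals
  set X : Submodule (ZMod 2) Wd := s.C ⊔ s.H ⊔ s.I with hX
  have hXG : X ≤ golayCode := sup_le (sup_le (fun w hw => (s.C_le hw).1) (fun w hw => (s.H_le hw).1)) s.I_le
  set X' : Submodule (ZMod 2) golayCode := X.comap golayCode.subtype with hX'
  have c4 : Nat.card N2 ≤ Nat.card N3 * Nat.card X'.dualAnnihilator := by
    have hfin : Finite (Module.Dual (ZMod 2) golayCode) := Module.finite_of_finite (ZMod 2)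
    have := card_le_mul N2 N3 (fun a => if ha : a ∈ N2 then fn (Subgroup.mem_subgroupOf.1 ha).2 else 0)
      (X'.dualAnnihilator : Set (Module.Dual (ZMod 2) golayCode)) (Set.toFinite _) (fun a ha => by
        simp only [dif_pos ha]
        rw [SetLike.mem_coe, Submodule.mem_dualAnnihilator]
        rintro ⟨w, hwG⟩ hw
        rw [fn_apply]
        exact s.orth a.2 (Subgroup.mem_subgroupOf.1 ha) hw hwG) (fun a ha b hb hab => by
        simp only [dif_pos ha, dif_pos hb] at hab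
        have ha' : (a : G) ∈ pre h W12 := Subgroup.mem_subgroupOf.1 ha
        have hb' : (b : G) ∈ pre h W12 := Subgroup.mem_subgroupOf.1 hb
        rw [hN3, Subgroup.mem_subgroupOf]
        refine ⟨Q.mul_mem (Q.inv_mem ha'.1) hb'.1, ?_⟩
        show eta ((a : G)⁻¹ * b) ∈ W1
        rw [h.eta_mul _ (Q.inv_mem ha'.1) _ hb'.1, h.eta_inv ha'.1, mem_W1_iff_pairL (W12.add_mem ha'.2 hb'.2)]
        intro c
        have h3 := congrArg (fun φ : Module.Dual (ZMod 2) golayCode => φ c) hab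
        simp only [fn_apply] at h3
        rw [pairL_add, h3]
        have key : ∀ a : ZMod 2, a + a = 0 := by decide
        exact key _)
    rwa [← Nat.card_coe_set_eq] at this
  have c5 : Nat.card N3 ≤ 4 := by
    have h1 : Nat.card N3 ≤ Nat.card (pre h W1) := by
      refine Nat.card_le_card_of_injective (fun a : N3 => (⟨a.1.1, Subgroup.mem_subgroupOf.1 a.2⟩ : pre h W1)) ?_
      intro a b hab
      exact Subtype.ext (Subtype.ext (congrArg (fun x : pre h W1 => (x : G)) hab))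
    rw [Cfsg.Agent.H848.NormFour.card_pre h W1, Cfsg.Agent.MonsterU.CoFrameIrr.card_W1] at h1
    omega
  have c6 := half s.C s.one_C
  have c7 := half s.H s.one_H
  have c8 : Nat.card X'.dualAnnihilator * Nat.card X = 2 ^ 12 := by
    have h1 := Subspace.finrank_add_finrank_dualAnnihilator_eq X'
    have h2 : Nat.card X' = Nat.card X := Nat.card_congr (Submodule.comapSubtypeEquivOfLe hXG).toEquiv
    have h3 : Nat.card X' = Nat.card (ZMod 2) ^ Module.finrank (ZMod 2) X' := Module.natCard_eq_pow_finrank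
    have h4 : Nat.card X'.dualAnnihilator = Nat.card (ZMod 2) ^ Module.finrank (ZMod 2) X'.dualAnnihilator :=
      Module.natCard_eq_pow_finrank
    have h5 : Nat.card golayCode = Nat.card (ZMod 2) ^ Module.finrank (ZMod 2) golayCode := Module.natCard_eq_pow_finrank
    rw [← h2, h3, h4, ← pow_add, add_comm, h1, ← h5, Cfsg.Agent.S0358.card_golayCode]
    norm_num
  have c9 : Nat.card s.K * Nat.card s.C * Nat.card s.H ≤ 8 * Nat.card X := by
    rw [hk, card_sub s.C, card_sub s.H, card_sub X, ← pow_add, ← pow_add, show (8 : ℕ) = 2 ^ 3 by norm_num, ← pow_add]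
    exact Nat.pow_le_pow_right (by norm_num) (by omega)
  have hXpos : 0 < Nat.card X := Nat.card_pos
  -- assemble
  have key : Nat.card E' * Nat.card X * 4 ≤ 2 ^ 15 * Nat.card X * 4 := by
    calc Nat.card E' * Nat.card X * 4
        = Nat.card s.R.ker * Nat.card s.K * Nat.card X * 4 := by rw [c1]
      _ ≤ (Nat.card N1 * F1.ncard) * Nat.card s.K * Nat.card X * 4 := by gcongr
      _ ≤ (Nat.card N2 * F2.ncard * F1.ncard) * Nat.card s.K * Nat.card X * 4 := by gcongr
      _ ≤ (Nat.card N3 * Nat.card X'.dualAnnihilator * F2.ncard * F1.ncard) * Nat.card s.K * Nat.card X * 4 := by gcongr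
      _ ≤ (4 * Nat.card X'.dualAnnihilator * F2.ncard * F1.ncard) * Nat.card s.K * Nat.card X * 4 := by gcongr
      _ = 4 * (Nat.card X'.dualAnnihilator * Nat.card X) * (2 * F2.ncard) * (2 * F1.ncard) * Nat.card s.K := by ring
      _ ≤ 4 * (Nat.card X'.dualAnnihilator * Nat.card X) * Nat.card s.H * Nat.card s.C * Nat.card s.K := by gcongr
      _ = 2 ^ 14 * (Nat.card s.K * Nat.card s.C * Nat.card s.H) := by rw [c8]; ring
      _ ≤ 2 ^ 14 * (8 * Nat.card X) := by gcongr
      _ = 2 ^ 15 * Nat.card X * 4 := by ring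
  exact Nat.le_of_mul_le_mul_right (Nat.le_of_mul_le_mul_right key (by norm_num)) hXpos

end Setup

end Cfsg.Agent.H332.Upper
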