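import Cfsg.Agent.H848.TrioK
import Cfsg.Agent.H332.GolayBound

/-!
# Words of the classes with even coordinates

`Word x g` : the class `x ∈ W23` is represented by a vector with even coordinates, half of which modulo 2 is `g`.
-/

set_option autoImplicit false

open Cfsg

namespace Cfsg.Agent.H332.Words

open Cfsg.Agent.SporadicA.Co0Mono hiding smul_add smul_sub smul_neg smul_zero
open Cfsg.Agent.SporadicA.Co1Simple
open Cfsg.Agent.SporadicStructure.Co0Base (e8 e8_coe)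
open Cfsg.Agent.SporadicStructure.LeechBase (zmod2_cases)
open Cfsg.Agent.CoOneType.SignFacts
open Cfsg.Agent.CoOneType.CoOneE (pr pr_surjective E mem_E)
open Cfsg.Agent.MonsterU.Lam2
open Cfsg.Agent.MonsterU.CoFrame
open Cfsg.Agent.MonsterU.CoFrameAct
open Cfsg.Agent.MonsterU.CoFrameL2
open Cfsg.Agent.H848.TrioU (pairL pairL_cl pairL_add)
open Cfsg.Agent.H332.GolayE (Wd)
open Cfsg.Agent.H332.GolayK (mv mv_apply)
open Cfsg.Spor (Co1)

/-- `g` is a word of the class `x` -/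
def Word (x : L2) (g : Wd) : Prop := ∃ v ∈ V23, cl v = x ∧ hw v = g

theorem Word.mem {x : L2} {g : Wd} (h : Word x g) : g ∈ golayCode := by
  obtain ⟨v, hv, rfl, rfl⟩ := h
  exact hw_mem hv

theorem Word.mem23 {x : L2} {g : Wd} (h : Word x g) : x ∈ W23 := by
  obtain ⟨v, hv, rfl, rfl⟩ := h
  exact cl_mem_W23.2 hv

theorem exists_word {x : L2} (h : x ∈ W23) : ∃ g, Word x g := by
  obtain ⟨v, rfl⟩ := cl_surjective x
  exact ⟨_, v, cl_mem_W23.1 h, rfl, rfl⟩

theorem two_coe (w : leechLattice) (i : GolayPt) :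
    (((2 : ℕ) • w : leechLattice) : GolayPt → ℤ) i = 2 * (w : GolayPt → ℤ) i := by
  show (2 : ℕ) • (w : GolayPt → ℤ) i = _
  rw [nsmul_eq_mul]; rfl

theorem two_mem_V23 (w : leechLattice) : (2 : ℕ) • w ∈ V23 := V12_le_V23 (two_smul_mem_V12 w)

theorem hw_two (w : leechLattice) : hw ((2 : ℕ) • w) = 0 ∨ hw ((2 : ℕ) • w) = 1 :=
  (mem_V12_iff_hw (two_mem_V23 w)).1 (two_smul_mem_V12 w)

theorem hw_two_u0 : hw ((2 : ℕ) • u0) = 1 := by
  rcases hw_two u0 with h | h
  · exfalso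
    have h1 := congrFun h none
    rw [hw_apply, two_coe, u0_coe, if_pos rfl] at h1
    exact absurd h1 (by decide)
  · exact h

theorem Word.uniq {x : L2} {g g' : Wd} (h : Word x g) (h' : Word x g') : g' = g ∨ g' = g + 1 := by
  obtain ⟨v, hv, hx, rfl⟩ := h
  obtain ⟨v', hv', hx', rfl⟩ := h'
  obtain ⟨w, hw'⟩ := cl_eq.1 (hx'.trans hx.symm)
  have e : v' = v + (2 : ℕ) • w := by rw [← hw']; abel
  rw [e, hw_add hv]
  rcases hw_two w with h1 | h1
  · left; rw [h1, add_zero]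
  · right; rw [h1]

theorem Word.compl {x : L2} {g : Wd} (h : Word x g) : Word x (g + 1) := by
  obtain ⟨v, hv, rfl, rfl⟩ := h
  refine ⟨v + (2 : ℕ) • u0, V23.add_mem hv (two_mem_V23 _), ?_, ?_⟩
  · rw [map_add, cl_two, add_zero]
  · rw [hw_add hv, hw_two_u0]

theorem Word.add {x y : L2} {g g' : Wd} (h : Word x g) (h' : Word y g') : Word (x + y) (g + g') := by
  obtain ⟨v, hv, rfl, rfl⟩ := h
  obtain ⟨v', hv', rfl, rfl⟩ := h'
  exact ⟨v + v', V23.add_mem hv hv', map_add _ _ _, hw_add hv⟩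

theorem Word.mem_W12_iff {x : L2} {g : Wd} (h : Word x g) : x ∈ W12 ↔ g = 0 ∨ g = 1 := by
  obtain ⟨v, hv, rfl, rfl⟩ := h
  rw [cl_mem_W12, mem_V12_iff_hw hv]

theorem word_zero : Word 0 0 := ⟨0, V23.zero_mem, map_zero _, by
  funext i
  rw [hw_apply]
  rfl⟩

theorem word_one : Word 0 1 := by
  have := word_zero.compl
  rwa [zero_add] at this

theorem exists_class {g : Wd} (hg : g ∈ golayCode) : ∃ x, Word x g := by
  obtain ⟨v, hv, h⟩ := exists_hw ⟨g, hg⟩
  exact ⟨_, v, hv, rfl, h⟩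

/-- the commutator form between `W12` and `W23` -/
theorem bf_word {x y : L2} (hx : x ∈ W12) {g : Wd} (hy : Word y g) : bf x y = pairL x ⟨g, hy.mem⟩ := by
  obtain ⟨v, rfl⟩ := cl_surjective x
  have hv := cl_mem_W12.1 hx
  obtain ⟨u, hu, rfl, hug⟩ := hy
  subst hug
  rw [pairL_cl, bf_cl]
  -- we may suppose that the coordinates are divisible by `4`
  have key : ∀ v' : leechLattice, (∀ i, (4 : ℤ) ∣ (v' : GolayPt → ℤ) i) → b0 v' u = pair v' ⟨hw u, hw_mem hu⟩ := by
    intro v' h4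
    choose w hw' using h4
    have hu' := fun i => hu i
    rw [pair_of_four (w := w) hw', b0]
    have h1 : dotInt (v' : GolayPt → ℤ) (u : GolayPt → ℤ) = 8 * ∑ i, w i * ((u : GolayPt → ℤ) i / 2) := by
      unfold dotInt
      rw [Finset.mul_sum]
      refine Finset.sum_congr rfl fun i _ => ?_
      rw [hw' i]
      obtain ⟨a, ha⟩ := hu' i
      rw [ha, Int.mul_ediv_cancel_left _ (by norm_num)]
      ring
    rw [h1, Int.mul_ediv_cancel_left _ (by norm_num), Int.cast_sum]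
    refine Finset.sum_congr rfl fun i _ => ?_
    rw [Int.cast_mul]
    rfl
  rcases (mem_V12_iff_hw (V12_le_V23 hv)).1 hv with h | h
  · exact key v ((hw_eq_zero_iff (V12_le_V23 hv)).1 h)
  · have hv' : v + (2 : ℕ) • u0 ∈ V23 := V23.add_mem (V12_le_V23 hv) (two_mem_V23 _)
    have h1 : hw (v + (2 : ℕ) • u0) = 0 := by
      rw [hw_add (V12_le_V23 hv), h, hw_two_u0]
      funext i
      show (1 : ZMod 2) + 1 = 0
      decide
    have h2 := key _ ((hw_eq_zero_iff hv').1 h1)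
    rw [pair_add, pair_two, add_zero] at h2
    rw [← h2, ← bf_cl, ← bf_cl, map_add, cl_two, add_zero]

/-- the action of a monomial element on words -/
theorem Word.sp {x : L2} {g : Wd} (h : Word x g) (c : golayCode) (σ : M24) :
    Word (pr (signCo0 c * permCo0 σ) • x) (mv σ⁻¹ g) := by
  obtain ⟨v, hv, rfl, rfl⟩ := h
  rw [map_mul, mul_smul, pr_smul_cl, pr_smul_cl]
  refine ⟨_, sign_mem_V23 c (perm_mem_V23 σ hv), rfl, ?_⟩
  rw [hw_sign (perm_mem_V23 σ hv)]
  rfl

theorem pair_sign_class {x : L2} {g : Wd} (h : Word x g) (c d : golayCode) :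
    pairL (pr (signCo0 c) • x - x) d = ∑ i, g i * (c : GolayPt → ZMod 2) i * (d : GolayPt → ZMod 2) i := by
  obtain ⟨v, hv, rfl, rfl⟩ := h
  rw [pr_smul_cl, ← map_sub, pairL_cl, pair_sign_sub hv]

theorem word_of_odd {x : L2} (h : x ∉ W23) (c : golayCode) : Word (pr (signCo0 c) • x - x) c := by
  obtain ⟨v, rfl⟩ := cl_surjective x
  rw [pr_smul_cl, ← map_sub]
  exact ⟨_, sign_sub_mem_V23 v c, rfl, hw_sign_sub (fun h1 => h (cl_mem_W23.2 h1)) c⟩

end Cfsg.Agent.H332.Words
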